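import Cfsg.Agent.ConwayGolay.Recognise

/-!
# The Frobenius group of order 253 and the element of order 10
-/

set_option autoImplicit false

namespace CfsgLib.ConwayGolay

variable {M : Type*} [Group M] [Finite M]

theorem prime_factors {q : ℕ} (hq : q.Prime) (h : q ∣ 244823040) :
    q = 2 ∨ q = 3 ∨ q = 5 ∨ q = 7 ∨ q = 11 ∨ q = 23 := by
  rw [show 244823040 = 2 ^ 10 * 3 ^ 3 * 5 * 7 * 11 * 23 by norm_num] at h
  have key : ∀ {a b : ℕ}, q ∣ a * b → q ∣ a ∨ q ∣ b := fun h => hq.dvd_mul.1 h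
  have p : ∀ {r n : ℕ}, r.Prime → q ∣ r ^ n → q = r := fun hr h =>
    (Nat.prime_dvd_prime_iff_eq hq hr).1 (hq.dvd_of_dvd_pow h)
  rcases key h with h | h
  rotate_left
  · simp [(Nat.prime_dvd_prime_iff_eq hq (by norm_num)).1 h]
  rcases key h with h | h
  rotate_left
  · simp [(Nat.prime_dvd_prime_iff_eq hq (by norm_num)).1 h]
  rcases key h with h | h
  rotate_left
  · simp [(Nat.prime_dvd_prime_iff_eq hq (by norm_num)).1 h]
  rcases key h with h | h
  rotate_left
  · simp [(Nat.prime_dvd_prime_iff_eq hq (by norm_num)).1 h]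
  rcases key h with h | h
  · simp [p Nat.prime_two h]
  · simp [p Nat.prime_three h]

theorem sylow_count (hM : Nat.card M = 244823040) {p : ℕ} [Fact p.Prime] (hp1 : p ∣ 244823040)
    (hp2 : ¬ p ^ 2 ∣ 244823040) {a : M} (ha : orderOf a = p) :
    ∃ n, n % p = 1 ∧ n * Nat.card (Subgroup.normalizer (Subgroup.zpowers a : Set M)) = 244823040 := by
  have hfac : (Nat.card M).factorization p = 1 := by
    rw [hM]
    refine le_antisymm ?_ ((Fact.out : p.Prime).dvd_iff_one_le_factorization (by norm_num) |>.1 hp1)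
    by_contra h
    exact hp2 (((Fact.out : p.Prime).pow_dvd_iff_le_factorization (by norm_num)).2 (by omega))
  let S : Sylow p M := Sylow.ofCard (Subgroup.zpowers a) (by rw [Nat.card_zpowers, ha, hfac, pow_one])
  have h1 := S.card_eq_index_normalizer
  have h2 := card_sylow_modEq_one p M
  refine ⟨Nat.card (Sylow p M), ?_, ?_⟩
  · rw [h2]; exact Nat.mod_eq_of_lt (Fact.out : p.Prime).one_lt
  · rw [h1, ← hM]; exact Subgroup.index_mul_card _

/-- The automorphisms induced on a cyclic group of prime order. -/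
theorem norm_cent (a : M) {p : ℕ} [Fact p.Prime] (ha : orderOf a = p) :
    ∃ d, d ∣ p - 1 ∧ Nat.card (Subgroup.normalizer (Subgroup.zpowers a : Set M)) =
      d * Nat.card (Subgroup.centralizer ({a} : Set M)) ∧
      (d = p - 1 → ∀ k, k.Coprime p →
        ∃ g ∈ Subgroup.normalizer (Subgroup.zpowers a : Set M), g * a * g⁻¹ = a ^ k) := by
  set H := Subgroup.zpowers a with hH
  let f := H.normalizerMonoidHom
  have hcardH : Nat.card H = p := (Nat.card_zpowers a).trans ha
  have hcent : ∀ n, n ∈ Subgroup.centralizer (H : Set M) ↔ n ∈ Subgroup.centralizer ({a} : Set M) := by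
    intro n
    rw [Subgroup.mem_centralizer_singleton_iff]
    refine ⟨fun h => (Subgroup.mem_centralizer_iff.1 h a (Subgroup.mem_zpowers a)).symm,
      fun h => Subgroup.mem_centralizer_iff.2 fun x hx => ?_⟩
    obtain ⟨i, rfl⟩ := Subgroup.mem_zpowers_iff.1 hx
    exact ((show Commute n a from h).zpow_right i).symm
  have hle : Subgroup.centralizer ({a} : Set M) ≤ Subgroup.normalizer (H : Set M) := by
    intro n hn
    exact Subgroup.centralizer_le_normalizer _ ((hcent n).2 hn)
  have hkc : Nat.card f.ker = Nat.card (Subgroup.centralizer ({a} : Set M)) := by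
    have e : f.ker = (Subgroup.centralizer ({a} : Set M)).subgroupOf (Subgroup.normalizer (H : Set M)) := by
      rw [Subgroup.normalizerMonoidHom_ker]
      ext n
      exact hcent n
    rw [e]
    exact Nat.card_congr (Subgroup.subgroupOfEquivOfLe hle).toEquiv
  have hmc : Nat.card (MulAut H) = p - 1 := by
    rw [IsCyclic.card_mulAut, hcardH, Nat.totient_prime Fact.out]
  refine ⟨Nat.card f.range, hmc ▸ f.range.card_subgroup_dvd_card, ?_, fun hd k hk => ?_⟩
  · rw [← hkc, ← Subgroup.index_ker f, mul_comm]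
    exact (Subgroup.card_mul_index f.ker).symm
  · have htop : f.range = ⊤ := Subgroup.eq_top_of_card_eq _ (by rw [hd, hmc])
    letI : CommGroup H := { (inferInstance : Group H) with mul_comm := fun x y => mul_comm' x y }
    let α : MulAut H := MulEquiv.ofBijective (powMonoidHom k)
      (Nat.Coprime.pow_left_bijective (by rw [hcardH]; exact hk.symm))
    obtain ⟨g, hg⟩ : ∃ g, f g = α := MonoidHom.range_eq_top.1 htop α
    refine ⟨g.1, g.2, ?_⟩
    have h := congrArg (fun e : MulAut H => ((e ⟨a, Subgroup.mem_zpowers a⟩ : H) : M)) hg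
    exact h

variable (rho : M →* Matrix.GeneralLinearGroup (Fin 11) (ZMod 2))

theorem cent23 (hM : Nat.card M = 244823040) (hrho : Function.Injective rho) {a : M}
    (ha : orderOf a = 23) : Nat.card (Subgroup.centralizer ({a} : Set M)) = 23 := by
  have : Fact (Nat.Prime 23) := ⟨by norm_num⟩
  set C := Subgroup.centralizer ({a} : Set M) with hC
  have hdvd : Nat.card C ∣ 244823040 := hM ▸ C.card_subgroup_dvd_card
  have h23 : 23 ∣ Nat.card C := by
    have := C.orderOf_dvd_natCard (show a ∈ C from Subgroup.mem_centralizer_singleton_iff.2 rfl)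
    rwa [ha] at this
  obtain ⟨m, hm⟩ := h23
  rcases eq_or_ne m 1 with rfl | hm1
  · omega
  obtain ⟨q, hq, hqm⟩ := Nat.exists_prime_and_dvd hm1
  exfalso
  have hqC : q ∣ Nat.card C := hm ▸ hqm.mul_left 23
  have hqM := hqC.trans hdvd
  have hq23 : q ≠ 23 := by
    rintro rfl
    have h2 : 23 * 23 ∣ 244823040 := dvd_trans (hm ▸ Nat.mul_dvd_mul_left 23 hqm) hdvd
    norm_num at h2
  have : Fact q.Prime := ⟨hq⟩
  obtain ⟨⟨x, hxC⟩, hx⟩ := exists_prime_orderOf_dvd_card' q hqC
  rw [Subgroup.orderOf_mk] at hx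
  have hcomm : x * a = a * x := Subgroup.mem_centralizer_singleton_iff.1 hxC
  have hmod := fix_modEq rho (x := a) (p := 23) (ha ▸ pow_orderOf_eq_one a) ((fixVec rho x : AddSubgroup (Fin 11 → ZMod 2)) : Set (Fin 11 → ZMod 2))
    (fun v hv => fix_invariant rho hcomm hv)
  have h1 : Nat.card {v : Fin 11 → ZMod 2 // v ∈ ((fixVec rho x : AddSubgroup (Fin 11 → ZMod 2)) : Set (Fin 11 → ZMod 2)) ∧ mv rho a v = v} = 1 := by
    refine Nat.card_eq_one_iff_unique.2 ⟨⟨fun u v => Subtype.ext ?_⟩, ⟨⟨0, zero_mem _, ?_⟩⟩⟩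
    · rw [no_fix23 rho hrho ha u.2.2, no_fix23 rho hrho ha v.2.2]
    · simp [mv]
  rw [h1] at hmod
  obtain ⟨d, hd, hcard⟩ := fixVec_pow rho x
  rw [show Nat.card (fixVec rho x : Set (Fin 11 → ZMod 2)) = 2 ^ d from hcard] at hmod
  have key : ∀ d ≤ 11, 2 ^ d ≡ 1 [MOD 23] → d = 0 ∨ d = 11 := by decide
  rcases key d hd hmod with rfl | rfl
  · have h2 := fix_card_modEq rho (x := x) (p := q) (hx ▸ pow_orderOf_eq_one x)
    rw [hcard] at h2
    rcases prime_factors hq hqM with rfl | rfl | rfl | rfl | rfl | rfl <;>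
      first
        | exact hq23 rfl
        | (norm_num [Nat.ModEq] at h2)
  · rw [eq_one_of_full rho hrho hcard, orderOf_one] at hx
    exact hq.ne_one hx.symm

theorem exists_frobenius (hM : Nat.card M = 244823040) (hrho : Function.Injective rho) :
    ∃ a b : M, orderOf a = 23 ∧ orderOf b = 11 ∧ b * a * b⁻¹ = a ^ 2 := by
  have : Fact (Nat.Prime 23) := ⟨by norm_num⟩
  have : Fact (Nat.Prime 11) := ⟨by norm_num⟩
  obtain ⟨a, ha⟩ := exists_prime_orderOf_dvd_card' (G := M) 23 (by rw [hM]; norm_num)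
  obtain ⟨n, hn, hnc⟩ := sylow_count hM (by norm_num) (by norm_num) ha
  obtain ⟨d, hd, hN, -⟩ := norm_cent a ha
  rw [cent23 rho hM hrho ha] at hN
  rw [hN] at hnc
  have hdle : d ≤ 22 := Nat.le_of_dvd (by norm_num) hd
  have hnd : n * d = 10644480 := by
    have : n * d * 23 = 10644480 * 23 := by rw [mul_assoc, hnc]
    exact Nat.eq_of_mul_eq_mul_right (by norm_num) this
  have hd11 : d = 11 := by
    have h := congrArg (· % 23) hnd
    simp only [Nat.mul_mod n d 23, hn, one_mul, Nat.mod_mod] at h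
    omega
  obtain ⟨⟨b, hbN⟩, hb⟩ := exists_prime_orderOf_dvd_card'
    (G := Subgroup.normalizer (Subgroup.zpowers a : Set M)) 11 (by rw [hN, hd11]; norm_num)
  rw [Subgroup.orderOf_mk] at hb
  have hmem : b * a * b⁻¹ ∈ Subgroup.zpowers a :=
    (Subgroup.mem_normalizer_iff.1 hbN a).1 (Subgroup.mem_zpowers a)
  obtain ⟨k, hk, hbk⟩ : ∃ k < 23, b * a * b⁻¹ = a ^ k := by
    rw [← mem_powers_iff_mem_zpowers] at hmem
    obtain ⟨k, hk⟩ := hmem
    exact ⟨k % 23, Nat.mod_lt _ (by norm_num), by rw [← ha, pow_mod_orderOf]; exact hk.symm⟩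
  have hiter : ∀ j : ℕ, b ^ j * a * (b ^ j)⁻¹ = a ^ (k ^ j) := by
    intro j
    induction j with
    | zero => simp
    | succ j ih =>
      rw [pow_succ', show b * b ^ j * a * (b * b ^ j)⁻¹ = b * (b ^ j * a * (b ^ j)⁻¹) * b⁻¹ by group,
        ih, ← conj_pow, hbk, ← pow_mul, ← pow_succ']
  have hred : ∀ m, a ^ m = a ^ (m % 23) := fun m => by rw [← ha, pow_mod_orderOf]
  have hinj : ∀ m, m < 23 → a ^ m = a ^ 1 → m = 1 := fun m hm h =>
    pow_injOn_Iio_orderOf (show m ∈ Set.Iio (orderOf a) by rw [Set.mem_Iio, ha]; exact hm)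
      (show 1 ∈ Set.Iio (orderOf a) by rw [Set.mem_Iio, ha]; norm_num) h
  have hk11 : k ^ 11 % 23 = 1 := hinj _ (Nat.mod_lt _ (by norm_num)) (by
    rw [← hred, ← hiter 11, show b ^ 11 = 1 from hb ▸ pow_orderOf_eq_one b]; simp)
  have hk1 : k ≠ 1 := by
    intro h1
    subst h1
    rw [pow_one] at hbk
    have hbC : b ∈ Subgroup.centralizer ({a} : Set M) :=
      Subgroup.mem_centralizer_singleton_iff.2 (mul_inv_eq_iff_eq_mul.1 hbk)
    have h := (Subgroup.centralizer ({a} : Set M)).orderOf_dvd_natCard hbC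
    rw [hb, cent23 rho hM hrho ha] at h
    norm_num at h
  have key : ∀ k < 23, k ^ 11 % 23 = 1 → k ≠ 1 → ∃ j ∈ List.range 11, k ^ j % 23 = 2 := by
    decide +kernel
  obtain ⟨j, hj, hj2⟩ := key k hk hk11 hk1
  refine ⟨a, b ^ j, ha, ?_, by rw [hiter, hred, hj2]⟩
  have hj0 : j ≠ 0 := by rintro rfl; norm_num at hj2
  rw [Nat.Coprime.orderOf_pow (by
    rw [hb]
    exact ((Nat.Prime.coprime_iff_not_dvd (by norm_num)).2 fun h =>
      absurd (Nat.le_of_dvd (Nat.pos_of_ne_zero hj0) h) (by rw [List.mem_range] at hj; omega))), hb]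

theorem exists_ten (hM : Nat.card M = 244823040) (hrho : Function.Injective rho) {b : M}
    (hb : orderOf b = 11) : ∃ d : M, d ^ 10 = 1 ∧ d * b * d⁻¹ = b ^ 2 := by
  classical
  have : Fact (Nat.Prime 11) := ⟨by norm_num⟩
  have hb11 : b ^ 11 = 1 := hb ▸ pow_orderOf_eq_one b
  -- the fixed space of `b`
  obtain ⟨e, he, hbcard⟩ := fixVec_pow rho b
  have hmod := fix_card_modEq rho (x := b) (p := 11) hb11
  rw [hbcard] at hmod
  have key : ∀ e ≤ 11, 2 ^ 11 ≡ 2 ^ e [MOD 11] → e = 1 ∨ e = 11 := by decide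
  obtain rfl : e = 1 := (key e he hmod).resolve_right fun h => by
    rw [h] at hbcard
    rw [eq_one_of_full rho hrho hbcard, orderOf_one] at hb
    norm_num at hb
  set F : Set (Fin 11 → ZMod 2) := ((fixVec rho b : AddSubgroup (Fin 11 → ZMod 2)) : Set (Fin 11 → ZMod 2)) with hF
  set C := Subgroup.centralizer ({b} : Set M) with hC
  have hCdvd : Nat.card C ∣ 244823040 := hM ▸ C.card_subgroup_dvd_card
  have hF2 : Nat.card F = 2 := hbcard.trans (pow_one 2)
  -- elements of prime order in the centralizer fix only those two vectors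
  have hprime : ∀ {q : ℕ}, q.Prime → ∀ {x : M}, x * b = b * x → orderOf x = q →
      q ≠ 2 ∧ ∀ v, mv rho x v = v → v ∈ F := by
    intro q hq x hxb hx
    have : Fact q.Prime := ⟨hq⟩
    have hx1 : x ≠ 1 := fun h => hq.ne_one (by rw [← hx, h, orderOf_one])
    have hxq : x ^ q = 1 := hx ▸ pow_orderOf_eq_one x
    -- `F` lies in the fixed space of `x`
    have hFx : ∀ v ∈ F, mv rho x v = v := by
      intro v hv
      by_contra hne
      have hv0 : v ≠ 0 := fun h => hne (by rw [h]; simp [mv])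
      have hxv : mv rho x v ∈ F := fix_invariant rho hxb.symm hv
      have hx0 : mv rho x v ≠ 0 := fun h => hv0 (by
        rw [← mv_one rho v, ← inv_mul_cancel x, mv_mul, h]; simp [mv])
      obtain ⟨y, -, hy⟩ := (Nat.card_eq_two_iff' (⟨0, zero_mem (fixVec rho b)⟩ : F)).1 hF2
      have e1 := hy ⟨v, hv⟩ fun h => hv0 (congrArg Subtype.val h)
      have e2 := hy ⟨_, hxv⟩ fun h => hx0 (congrArg Subtype.val h)
      exact hne (congrArg Subtype.val (e2.trans e1.symm))
    obtain ⟨d, hd, hcard⟩ := fixVec_pow rho x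
    have hm := fix_modEq rho (x := b) (p := 11) hb11 ((fixVec rho x : AddSubgroup (Fin 11 → ZMod 2)) : Set (Fin 11 → ZMod 2))
      (fun v hv => fix_invariant rho hxb hv)
    have hsub : Nat.card {v : Fin 11 → ZMod 2 // v ∈ ((fixVec rho x : AddSubgroup (Fin 11 → ZMod 2)) : Set (Fin 11 → ZMod 2)) ∧ mv rho b v = v} = 2 :=
      (Nat.card_congr (Equiv.subtypeEquivRight fun v => ⟨fun h => h.2, fun h => ⟨hFx v h, h⟩⟩)).trans
        hF2
    rw [hsub, show Nat.card (fixVec rho x : Set (Fin 11 → ZMod 2)) = 2 ^ d from hcard] at hm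
    have key' : ∀ d ≤ 11, 2 ^ d ≡ 2 [MOD 11] → d = 1 ∨ d = 11 := by decide
    obtain rfl : d = 1 := (key' d hd hm).resolve_right fun h => hx1 (eq_one_of_full rho hrho (h ▸ hcard))
    refine ⟨?_, fun v hv => ?_⟩
    · rintro rfl
      have h2 := fix_card_modEq rho (x := x) (p := 2) hxq
      -- the fixed space of an involution is large
      let g : (Fin 11 → ZMod 2) →+ (Fin 11 → ZMod 2) := AddMonoidHom.mk' (fun v => mv rho x v + v)
        (fun u v => by simp only [mv, Matrix.mulVec_add]; abel)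
      have hker : g.ker = fixVec rho x := by
        ext v
        refine ⟨fun h => ?_, fun h => ?_⟩
        · have h' : mv rho x v + v = 0 := h
          show mv rho x v = v
          exact (eq_neg_of_add_eq_zero_left h').trans (ZModModule.neg_eq_self v)
        · show mv rho x v + v = 0
          rw [show mv rho x v = v from h, ZModModule.add_self]
      have hrange : g.range ≤ fixVec rho x := by
        rintro _ ⟨v, rfl⟩
        show mv rho x (mv rho x v + v) = mv rho x v + v
        simp only [mv, Matrix.mulVec_add]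
        rw [show (rho x : Matrix (Fin 11) (Fin 11) (ZMod 2)).mulVec ((rho x : Matrix _ _ _).mulVec v)
          = mv rho (x * x) v from (mv_mul rho x x v).symm, ← pow_two, hxq, mv_one, add_comm]
      have h1 := g.ker.card_mul_index
      rw [AddSubgroup.index_ker, hker, card_vec, hcard] at h1
      have h3 := AddSubgroup.card_le_of_le hrange
      rw [hcard] at h3
      norm_num at h1 h3
      omega
    · have heq : Nat.card (fixVec rho x) = Nat.card F := by rw [hF2, hcard, pow_one]
      have hset : F = ((fixVec rho x : AddSubgroup (Fin 11 → ZMod 2)) : Set (Fin 11 → ZMod 2)) := by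
        refine Set.eq_of_subset_of_ncard_le (fun w hw => hFx w hw) ?_ (Set.toFinite _)
        rw [← Nat.card_coe_set_eq, ← Nat.card_coe_set_eq]
        exact heq.le
      rw [hset]
      exact hv
  -- the centralizer acts freely on the remaining 2046 vectors
  have hfree : ∀ x ∈ C, x ≠ 1 → ∀ v, mv rho x v = v → v ∈ F := by
    intro x hx hx1 v hv
    obtain ⟨q, hq, hqd⟩ := Nat.exists_prime_and_dvd (fun h => hx1 (orderOf_eq_one_iff.1 h))
    have hxb : x * b = b * x := Subgroup.mem_centralizer_singleton_iff.1 hx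
    exact (hprime hq (x := x ^ (orderOf x / q)) ((show Commute x b from hxb).pow_left _).eq
      (orderOf_pow_orderOf_div (orderOf_pos x).ne' hqd)).2 v (mv_pow rho x hv _)
  have h2046 : Nat.card C ∣ 2046 := by
    let S := {v : Fin 11 → ZMod 2 // v ∉ F}
    have hstab : ∀ (c : C) (v : S), mv rho c v.1 ∉ F := fun c v h => v.2 (by
      have hc : (c : M) * b = b * c := Subgroup.mem_centralizer_singleton_iff.1 c.2
      have := fix_invariant rho (y := (c : M)⁻¹) ((show Commute (c : M) b from hc).inv_left.symm).eq h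
      rwa [← mv_mul, inv_mul_cancel, mv_one] at this)
    letI act : MulAction C S :=
      { smul := fun c v => ⟨mv rho c v.1, hstab c v⟩
        one_smul := fun v => Subtype.ext (mv_one rho v.1)
        mul_smul := fun c d v => Subtype.ext (mv_mul rho c d v.1) }
    have hcard : Nat.card S = 2046 := by
      have h := Nat.card_congr (Equiv.sumCompl (fun v => v ∈ F))
      rw [Nat.card_sum, card_vec] at h
      have hF2' : Nat.card {v // v ∈ F} = 2 := hF2
      show Nat.card {v : Fin 11 → ZMod 2 // ¬ v ∈ F} = 2046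
      rw [hF2'] at h
      omega
    have hst : ∀ v : S, MulAction.stabilizer C v = ⊥ := fun v => by
      refine (Subgroup.eq_bot_iff_forall _).2 fun c hc => ?_
      by_contra hne
      exact v.2 (hfree c c.2 (fun h => hne (Subtype.ext h)) v.1
        (congrArg Subtype.val (MulAction.mem_stabilizer_iff.1 hc)))
    letI := Fintype.ofFinite (Quotient (MulAction.orbitRel C S))
    rw [← hcard, Nat.card_congr (MulAction.selfEquivSigmaOrbits C S), Nat.card_sigma]
    refine Finset.dvd_sum fun ω _ => ?_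
    rw [Nat.card_congr (MulAction.orbitEquivQuotientStabilizer C ω.out), hst,
      ← Subgroup.index_eq_card, Subgroup.index_bot]
  have hodd : ¬ 2 ∣ Nat.card C := fun h => by
    have : Fact (Nat.Prime 2) := ⟨Nat.prime_two⟩
    obtain ⟨⟨x, hx⟩, hx2⟩ := exists_prime_orderOf_dvd_card' 2 h
    rw [Subgroup.orderOf_mk] at hx2
    exact (hprime Nat.prime_two (Subgroup.mem_centralizer_singleton_iff.1 hx) hx2).1 rfl
  have h11 : 11 ∣ Nat.card C := by
    have := C.orderOf_dvd_natCard (show b ∈ C from Subgroup.mem_centralizer_singleton_iff.2 rfl)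
    rwa [hb] at this
  have hC66 : Nat.card C ∣ 66 := by
    have := Nat.dvd_gcd h2046 hCdvd
    norm_num at this
    exact this
  have hCle : Nat.card C ≤ 66 := Nat.le_of_dvd (by norm_num) hC66
  obtain ⟨n, hn, hnc⟩ := sylow_count hM (by norm_num) (by norm_num) hb
  obtain ⟨d, hd, hN, hsurj⟩ := norm_cent b hb
  have hdle : d ≤ 10 := Nat.le_of_dvd (by norm_num) hd
  rw [hN] at hnc
  have hC33 : Nat.card C = 11 ∨ Nat.card C = 33 := by
    have k66 : ∀ c ≤ 66, c ∣ 66 → ¬ 2 ∣ c → 11 ∣ c → c = 11 ∨ c = 33 := by decide +kernel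
    exact k66 _ hCle hC66 hodd h11
  have hres : Nat.card C = 11 ∧ d = 10 := by
    have k10 : ∀ d ≤ 10, d ∣ 11 - 1 → d = 1 ∨ d = 2 ∨ d = 5 ∨ d = 10 := by decide
    rcases hC33 with h | h <;> rw [h] at hnc <;>
      rcases k10 d hdle hd with rfl | rfl | rfl | rfl <;> first | exact ⟨h, rfl⟩ | omega
  obtain ⟨g, hgN, hg⟩ := hsurj hres.2 2 (by norm_num)
  refine ⟨g, ?_, hg⟩
  have hiter : ∀ j : ℕ, g ^ j * b * (g ^ j)⁻¹ = b ^ (2 ^ j) := by
    intro j
    induction j with
    | zero => simp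
    | succ j ih =>
      rw [pow_succ', show g * g ^ j * b * (g * g ^ j)⁻¹ = g * (g ^ j * b * (g ^ j)⁻¹) * g⁻¹ by group,
        ih, ← conj_pow, hg, ← pow_mul, ← pow_succ']
  have hcm : g ^ 10 ∈ C := by
    rw [hC, Subgroup.mem_centralizer_singleton_iff, ← mul_inv_eq_iff_eq_mul, hiter,
      ← pow_mod_orderOf, hb]
    norm_num
  have hCz : C = Subgroup.zpowers b := (Subgroup.eq_of_le_of_card_ge
    (Subgroup.zpowers_le.2 (Subgroup.mem_centralizer_singleton_iff.2 rfl))
    (by rw [Nat.card_zpowers, hb, hres.1])).symm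
  rw [hCz, ← mem_powers_iff_mem_zpowers] at hcm
  obtain ⟨i, hi⟩ := hcm
  have hi' : b ^ i = g ^ 10 := hi
  have h1 : g * b ^ i * g⁻¹ = b ^ i := by rw [hi']; group
  rw [← conj_pow, hg, ← pow_mul, mul_comm, pow_mul] at h1
  have h2 : b ^ i = 1 := mul_eq_left.1 ((pow_two (b ^ i)).symm.trans h1)
  rw [← hi', h2]

theorem isoM24 (hM : Nat.card M = 244823040) (hrho : Function.Injective rho) :
    Nonempty (M ≃* Cfsg.M24) := by
  obtain ⟨a, b, ha, hb, hab⟩ := exists_frobenius rho hM hrho
  obtain ⟨d, hd, hdb⟩ := exists_ten rho hM hrho hb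
  exact CfsgLib.MTwentyFourUnique.isoM24_of_rep hM rho hrho a b d ha hb hd hab hdb

end CfsgLib.ConwayGolay
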