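import Cfsg.Agent.ConwayGolay.Fibres
import Cfsg.Agent.ConwayGolay.RecogniseTwo

/-!
# The two orbits of the normalizer, and its order
-/

set_option autoImplicit false

namespace CfsgLib.ConwayGolay

open CfsgLib.ConwayType CfsgLib.LargeExtraspecial

section Generic

variable {G : Type*} [Group G] [Finite G]

open Classical in
/-- The conjugates of an element under a subgroup. -/
noncomputable def orb (N : Subgroup G) (x : G) : Finset G :=
  (Set.toFinite {a : G | ∃ n ∈ N, n * x * n⁻¹ = a}).toFinset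

theorem mem_orb {N : Subgroup G} {x a : G} : a ∈ orb N x ↔ ∃ n ∈ N, n * x * n⁻¹ = a := by
  simp [orb]

theorem orb_conj {N : Subgroup G} {x a g : G} (hg : g ∈ N) (ha : a ∈ orb N x) :
    g * a * g⁻¹ ∈ orb N x := by
  obtain ⟨n, hn, rfl⟩ := mem_orb.1 ha
  exact mem_orb.2 ⟨g * n, mul_mem hg hn, by group⟩

theorem card_orb (N : Subgroup G) (x : G) :
    Nat.card N = (orb N x).card * Nat.card ↥(N ⊓ Subgroup.centralizer ({x} : Set G)) := by
  classical
  have h : ∀ a : {a : G // a ∈ orb N x}, ∃ n, n ∈ N ∧ n * x * n⁻¹ = a.1 := fun a => mem_orb.1 a.2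
  choose g hg hgx using h
  let f : {a : G // a ∈ orb N x} × ↥(N ⊓ Subgroup.centralizer ({x} : Set G)) → N := fun p =>
    ⟨g p.1 * p.2.1, mul_mem (hg _) p.2.2.1⟩
  have hconj : ∀ p : {a : G // a ∈ orb N x} × ↥(N ⊓ Subgroup.centralizer ({x} : Set G)),
      (f p : G) * x * (f p : G)⁻¹ = p.1.1 := fun p => by
    show g p.1 * p.2.1 * x * (g p.1 * p.2.1)⁻¹ = p.1.1
    rw [mul_assoc (g p.1) _ x, Subgroup.mem_centralizer_singleton_iff.1 p.2.2.2, ← hgx p.1]
    group
  have hf : Function.Bijective f := by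
    refine ⟨fun ⟨a, c⟩ ⟨a', c'⟩ e => ?_, fun ⟨n, hn⟩ => ?_⟩
    · have ha : a = a' := Subtype.ext (by rw [← hconj (a, c), e, hconj (a', c')])
      subst ha
      rw [Subtype.ext (mul_left_cancel (congrArg Subtype.val e) : (c : G) = c')]
    · obtain ⟨a, ha⟩ : ∃ a : {a : G // a ∈ orb N x}, a.1 = n * x * n⁻¹ :=
        ⟨⟨_, mem_orb.2 ⟨n, hn, rfl⟩⟩, rfl⟩
      refine ⟨(a, ⟨(g a)⁻¹ * n, N.mul_mem (N.inv_mem (hg a)) hn, ?_⟩), Subtype.ext (mul_inv_cancel_left _ n)⟩
      refine Subgroup.mem_centralizer_singleton_iff.2 (mul_inv_eq_iff_eq_mul.1 ?_)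
      rw [show (g a)⁻¹ * n * x * ((g a)⁻¹ * n)⁻¹ = (g a)⁻¹ * (n * x * n⁻¹) * g a by group, ← ha, ← hgx a]
      group
  rw [← Nat.card_congr (Equiv.ofBijective f hf), Nat.card_prod, Nat.card_eq_finsetCard]

/-- Sets of non-identity elements moved by an element of order 23 modulo `A`. -/
theorem dvd_of_twentythree (A : Subgroup G) (hcomm : ∀ a ∈ A, ∀ b ∈ A, a * b = b * a)
    (hcard : Nat.card A = 2 ^ 11) (hC : Subgroup.centralizer (A : Set G) ≤ A) {n : G}
    (hn : n ∈ Subgroup.normalizer (A : Set G)) (hnA : n ∉ A) (hn23 : n ^ 23 ∈ A) (Y : Finset G)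
    (hYA : ∀ y ∈ Y, y ∈ A ∧ y ≠ 1) (hY : ∀ y ∈ Y, n * y * n⁻¹ ∈ Y) : 23 ∣ Y.card := by
  classical
  have : Fact (Nat.Prime 23) := ⟨by norm_num⟩
  have hmain : ∀ S : Set G, S ⊆ A → (∀ y ∈ S, n * y * n⁻¹ ∈ S) →
      Nat.card S ≡ Nat.card {y : G // y ∈ S ∧ n * y * n⁻¹ = y} [MOD 23] := by
    intro S hSA hS
    letI := Fintype.ofFinite S
    let f : Function.End S := fun v => ⟨n * v.1 * n⁻¹, hS v.1 v.2⟩
    have hiter : ∀ (k : ℕ) (v : S), ((f ^ k) v).1 = n ^ k * v.1 * (n ^ k)⁻¹ := by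
      intro k
      induction k with
      | zero => intro v; simp [Function.End.one_def]
      | succ k ih =>
        intro v
        rw [pow_succ, show ((f ^ k * f) v).1 = ((f ^ k) (f v)).1 from rfl, ih (f v), pow_succ]
        show n ^ k * (n * v.1 * n⁻¹) * (n ^ k)⁻¹ = _
        group
    have hp : f ^ 23 ^ 1 = 1 := funext fun v => Subtype.ext (by
      rw [pow_one, hiter, hcomm _ hn23 _ (hSA v.2)]
      show _ = v.1
      group)
    have h := Equiv.Perm.card_fixedPoints_modEq hp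
    rw [← Nat.card_eq_fintype_card, ← Nat.card_eq_fintype_card] at h
    refine h.trans (congrArg (· % 23) (Nat.card_congr ?_))
    exact {
      toFun := fun v => ⟨v.1.1, v.1.2, congrArg Subtype.val v.2⟩
      invFun := fun v => ⟨⟨v.1, v.2.1⟩, Subtype.ext v.2.2⟩
      left_inv := fun v => rfl
      right_inv := fun v => rfl }
  set Fx := A ⊓ Subgroup.centralizer ({n} : Set G) with hFx
  have hA := hmain (A : Set G) subset_rfl (fun y hy => (Subgroup.mem_normalizer_iff.1 hn y).1 hy)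
  have hAfix : Nat.card {y : G // y ∈ (A : Set G) ∧ n * y * n⁻¹ = y} = Nat.card Fx :=
    Nat.card_congr (Equiv.subtypeEquivRight fun y => by
      rw [hFx, Subgroup.mem_inf, Subgroup.mem_centralizer_singleton_iff, mul_inv_eq_iff_eq_mul]
      exact and_congr Iff.rfl eq_comm)
  rw [hAfix, show Nat.card (A : Set G) = 2 ^ 11 from hcard] at hA
  obtain ⟨d, hd, hFd⟩ := (Nat.dvd_prime_pow Nat.prime_two).1
    (hcard ▸ Subgroup.card_dvd_of_le (inf_le_left : Fx ≤ A))
  rw [hFd] at hA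
  have key : ∀ d ≤ 11, 2 ^ 11 ≡ 2 ^ d [MOD 23] → d = 0 ∨ d = 11 := by decide
  rcases key d hd hA with rfl | rfl
  · have hbot : Fx = ⊥ := Subgroup.eq_bot_of_card_eq _ hFd
    have hYm := hmain (Y : Set G) (fun y hy => (hYA y hy).1) hY
    have h0 : Nat.card {y : G // y ∈ (Y : Set G) ∧ n * y * n⁻¹ = y} = 0 := by
      rw [Nat.card_eq_zero]
      refine Or.inl ⟨fun y => (hYA y.1 y.2.1).2 ?_⟩
      have hy : y.1 ∈ Fx := ⟨(hYA y.1 y.2.1).1,
        Subgroup.mem_centralizer_singleton_iff.2 (mul_inv_eq_iff_eq_mul.1 y.2.2).symm⟩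
      rwa [hbot] at hy
    rw [h0, show Nat.card (Y : Set G) = Y.card from Nat.card_eq_finsetCard Y] at hYm
    exact Nat.modEq_zero_iff_dvd.1 hYm
  · exfalso
    have hle : Fx = A := Subgroup.eq_of_le_of_card_ge inf_le_left (by rw [hFd, hcard])
    refine hnA (hC (Subgroup.mem_centralizer_iff.2 fun a ha => ?_))
    exact Subgroup.mem_centralizer_singleton_iff.1 ((hle.ge ha).2)

theorem card_GL_eleven : Nat.card (Matrix.GeneralLinearGroup (Fin 11) (ZMod 2)) =
    2047 * 2046 * 2044 * 2040 * 2032 * 2016 * 1984 * 1920 * 1792 * 1536 * 1024 := by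
  rw [Matrix.card_GL_field, ZMod.card]
  simp [Fin.prod_univ_succ]

end Generic

variable {G : Type*} [Group G] [Finite G] {z s : G} {Q P : Subgroup G} {π : G → V8}
  (F : Frame z Q π P s)
include F

theorem centralizer_le : Subgroup.centralizer (theA F.data : Set G) ≤ theA F.data :=
  Subgroup.centralizer_le (fun _ hx => wTil_le F.data hx)

theorem stW_le_normalizer : stW F.data [] ≤ Subgroup.normalizer (theA F.data : Set G) :=
  (normalizer_inf_eq F.data).ge.trans inf_le_left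

theorem moving_facts (hgood : Good F) {p : G} (hp : p ∈ P) (hpz : p * z * p⁻¹ = s * z)
    (hpz' : p⁻¹ * z * p = s * z) :
    p ∈ Subgroup.normalizer (theA F.data : Set G) ∧
      ∀ x ∈ wTil F.data, x * p * x⁻¹ * p⁻¹ ∈ theA F.data ∧
        F.ups (x * p * x⁻¹ * p⁻¹) = cls π x := by
  have key : ∀ x ∈ wTil F.data, x * p * x⁻¹ * p⁻¹ ∈ theA F.data ∧
      F.ups (x * p * x⁻¹ * p⁻¹) = cls π x := by
    intro x hx
    have hxs : x * s = s * x := (F.comm_s_iff hx.1).2 (inW_pU _ hx.2).2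
    have hxz := F.data.Q_comm hx.1
    obtain ⟨h1, h2⟩ := F.comm_P_mem hxz hxs hp hpz hpz'
    have h3 := F.ups_comm_P hx.1 hxs hp hpz hpz'
    exact ⟨mem_theA_of_W F h1 h2 (by rw [h3]; exact (inW_pU _ hx.2).1), h3⟩
  refine ⟨?_, key⟩
  have hinv : p⁻¹ ∈ Subgroup.normalizer (theA F.data : Set G) := by
    refine mem_normalizer_of_conj F.data _ fun a ha => Subgroup.mem_centralizer_iff.2 fun x hx => ?_
    have hpx : p * x * p⁻¹ ∈ theA F.data := by
      rw [show p * x * p⁻¹ = (x * p * x⁻¹ * p⁻¹)⁻¹ * x by group]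
      exact mul_mem (inv_mem (key x hx).1) (wTil_le _ hx)
    have h := theA_comm F hgood hpx ha
    calc x * (p⁻¹ * a * p⁻¹⁻¹) = p⁻¹ * ((p * x * p⁻¹) * a) * p := by group
      _ = p⁻¹ * (a * (p * x * p⁻¹)) * p := by rw [h]
      _ = p⁻¹ * a * p⁻¹⁻¹ * x := by group
  simpa using inv_mem hinv

theorem card_quot_mul (hgood : Good F) {X : ℕ}
    (hX : (orb (Subgroup.normalizer (theA F.data : Set G)) z).card = X) :
    Nat.card (Subgroup.normalizer (theA F.data : Set G)) = X * 660602880 := by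
  rw [card_orb _ z, hX, card_normalizer_inf F hgood]

/-- Everything except the splitting. -/
theorem structure_facts (hgood : Good F) :
    ∃ _ : ((theA F.data).subgroupOf (Subgroup.normalizer (theA F.data : Set G))).Normal,
      Nonempty (↥(Subgroup.normalizer (theA F.data : Set G)) ⧸
        (theA F.data).subgroupOf (Subgroup.normalizer (theA F.data : Set G)) ≃* Cfsg.M24) ∧
      Nat.card (Subgroup.normalizer (theA F.data : Set G)) = 759 * 660602880 ∧
      ∃ b ∈ theA F.data, b ≠ 1 ∧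
        (∀ n ∈ Subgroup.normalizer (theA F.data : Set G), n * z * n⁻¹ ≠ b) ∧
        ∀ c ∈ theA F.data, c ≠ 1 → ∃ n ∈ Subgroup.normalizer (theA F.data : Set G),
          n * c * n⁻¹ = z ∨ n * c * n⁻¹ = b := by
  classical
  set D := F.data with hD
  set A := theA D with hA
  set N := Subgroup.normalizer (A : Set G) with hN
  have hcardA := card_theA F hgood
  have hcomm : ∀ a ∈ A, ∀ b ∈ A, a * b = b * a := fun a ha b hb => theA_comm F hgood ha hb
  obtain ⟨hnorm, rho, hrho⟩ := exists_rho A (theA_elem F hgood) hcardA (centralizer_le F)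
  have hzA : z ∈ A := wTil_le D (z_mem_wTil D)
  have hAN : ∀ n ∈ N, ∀ a ∈ A, n * a * n⁻¹ ∈ A := fun n hn a ha =>
    (Subgroup.mem_normalizer_iff.1 hn a).1 ha
  have horbA : ∀ x ∈ A, ∀ a ∈ orb N x, a ∈ A := fun x hx a ha => by
    obtain ⟨n, hn, rfl⟩ := mem_orb.1 ha; exact hAN n hn x hx
  have horbst : ∀ x, ∀ g ∈ stW D [], ∀ a ∈ orb N x, g * a * g⁻¹ ∈ orb N x := fun x g hg a ha =>
    orb_conj (stW_le_normalizer F hg) ha
  -- the moving element
  obtain ⟨p, hp, hpz, hpz'⟩ := F.exists_moving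
  obtain ⟨hpN, hpW⟩ := moving_facts F hgood hp hpz hpz'
  set X := orb N z with hX
  have hzX : z ∈ X := mem_orb.2 ⟨1, one_mem _, by group⟩
  have hszX : s * z ∈ X := mem_orb.2 ⟨p, hpN, hpz⟩
  obtain ⟨hz1, hs1, -, -, -, -⟩ := F.zs_facts
  -- all of the preimage of the subspace
  have hwX : ∀ x ∈ wTil D, x ≠ 1 → x ∈ X := by
    intro x hx hx1
    by_cases hxz : x = z
    · rw [hxz]; exact hzX
    have hπ0 : π x ≠ 0 := fun h => by
      rcases D.mem_of_π_zero hx.1 h with e | e <;> contradiction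
    obtain ⟨g, hg, hge⟩ := stage_zero D hx.2 hπ0
    have hgN : g ∈ N := stW_le_normalizer F (lev_stW D hg (by simp))
    have hszQ : s * z ∈ Q := mul_mem F.pair.mem D.sub.z_mem
    have hgsz : π (g * (s * z) * g⁻¹) = π x := by
      rw [← D.act_π hg.1 hszQ, D.map_mul _ F.pair.mem _ D.sub.z_mem, D.π_z, add_zero, F.π_s]
      exact hge
    rcases D.eq_or_eq_of_π_eq (D.sub.conj_mem hg.1 hszQ) hx.1 hgsz with e | e
    · rw [e]; exact orb_conj hgN hszX
    · obtain ⟨q, hq, hqx⟩ := D.sub.exists_not_commute hx1 hxz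
      have hqN : q ∈ N := stW_le_normalizer F (mem_stW_of_mem_Q D hq [])
      have h := D.sub.conj_of_not_commute hq hx.1 hqx
      have hzx : z * x ∈ X := by
        rw [e, ← mul_assoc, D.sub.mul_self, one_mul]; exact orb_conj hgN hszX
      have hx' : q * (z * x) * q⁻¹ = x := by
        rw [show q * (z * x) * q⁻¹ = (q * z * q⁻¹) * (q * x * q⁻¹) by group,
          mul_inv_eq_iff_eq_mul.2 (D.Q_comm hq), h, ← mul_assoc, D.sub.mul_self, one_mul]
      rw [← hx']; exact orb_conj hqN hzx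
  have hone : ∀ x, x ≠ 1 → (1 : G) ∉ orb N x := fun x hx h => by
    obtain ⟨n, -, e⟩ := mem_orb.1 h
    exact hx (conj_eq_one_iff.1 e)
  have hfib0 : (fib D X 0).card = 31 := by
    have h32 : ((Set.toFinite (wTil D : Set G)).toFinset.erase 1).card = 31 := by
      rw [Finset.card_erase_of_mem (by simp), ← Nat.card_eq_card_finite_toFinset,
        show Nat.card (wTil D : Set G) = 32 from card_wTil D]
    rw [← h32]
    congr 1
    ext x
    simp only [fib, Finset.mem_filter, Finset.mem_erase, Set.Finite.mem_toFinset, SetLike.mem_coe]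
    refine ⟨fun h => ⟨fun e => hone z hz1 (e ▸ h.1), (mem_wTil_iff D (horbA z hzA x h.1)).2 h.2⟩,
      fun h => ⟨hwX x h.2 h.1, (mem_wTil_iff D (wTil_le D h.2)).1 h.2⟩⟩
  obtain ⟨i, j, hi, hj, hXc, hXfib⟩ := count_formula F hgood X (horbA z hzA) (horbst z)
  rw [hfib0] at hXc
  -- a conjugate of `z` outside `Q`
  have hi0 : i ≠ 0 := by
    obtain ⟨x, hxQ, -, hxπ⟩ := F.exists_mem (mk8 64) (by decide)
    have hx : x ∈ wTil D := ⟨hxQ, by rw [hxπ]; exact inW_zero.2.2.2.2⟩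
    have hx1 : x ≠ 1 := fun e => by rw [e, D.π_one] at hxπ; exact absurd hxπ (by decide)
    obtain ⟨hc, hcu⟩ := hpW x hx
    obtain ⟨hcP, hcz⟩ := F.comm_P_mem (D.Q_comm hxQ) ((F.comm_s_iff hxQ).2 (by rw [hxπ]; decide)) hp hpz hpz'
    obtain ⟨-, hsie, -, -⟩ := basis_facts
    have hk : acode D (x * p * x⁻¹ * p⁻¹) = 4 := by
      rw [acode, ← code_basis.2.2.1]
      congr 1
      funext v
      rw [F.act_W hcP hcz, hcu, ← hsie v]
      congr 1
      rw [cls, hxπ]; decide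
    have hmem : p * x * p⁻¹ ∈ fib D X 4 := by
      refine Finset.mem_filter.2 ⟨orb_conj hpN (hwX x hx hx1), ?_⟩
      rw [show p * x * p⁻¹ = (x * p * x⁻¹ * p⁻¹)⁻¹ * x by group,
        inv_eq_of_mul_eq_one_right (theA_sq F hgood hc), acode_mul D hc (wTil_le D hx), hk,
        (mem_wTil_iff D (wTil_le D hx)).1 hx, Nat.xor_zero]
    intro h0
    have := hXfib 4 (by norm_num) code_std.2.2.2 (by norm_num)
    rw [h0, mul_zero] at this
    exact (Finset.card_pos.2 ⟨_, hmem⟩).ne' this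
  -- arithmetic
  have hNA : A ≤ N := Subgroup.le_normalizer
  have hcardN := card_quot_mul F hgood (X := X.card) rfl
  have hsubA : Nat.card (A.subgroupOf N) = 2048 := by
    rw [Nat.card_congr (Subgroup.subgroupOfEquivOfLe hNA).toEquiv, hcardA]; norm_num
  have hq : Nat.card (N ⧸ A.subgroupOf N) = X.card * 322560 := by
    have h := Subgroup.card_eq_card_quotient_mul_card_subgroup (A.subgroupOf N)
    rw [hcardN, hsubA] at h
    omega
  -- an element not conjugate to `z`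
  obtain ⟨hT1, hT2, hT3, hT4, hT5, -, hT7, -⟩ := std_TS
  obtain ⟨a, w, ha, has, hw, hwz, haA, hwU⟩ := F.exists_type' hT1 hT2
  have hbA : a * w ∈ A := mul_mem (wTil_le D ⟨ha, by
      have h := (F.comm_s_iff ha).1 has
      rcases eq_pU_add (π a) h with e | e <;> rw [e, show pU (π a) = aT from haA] <;> decide⟩)
    (mem_theA_of_W F hw hwz (by rw [hwU]; decide))
  have hb1 : a * w ≠ 1 := fun e => hT7 (by
    rw [← hwU]
    refine F.ups_memE (F.memE_of_mem ?_ hw)
    rw [show w = a⁻¹ by rw [eq_inv_of_mul_eq_one_right e]]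
    exact inv_mem ha)
  have hbz := F.not_isConj_TS ha has hw hwz haA hwU (theA_sq F hgood hbA)
  have hbX : a * w ∉ X := fun h => by
    obtain ⟨n, -, e⟩ := mem_orb.1 h
    exact hbz (isConj_iff.2 ⟨n, e⟩)
  let A1 := (Set.toFinite (A : Set G)).toFinset.erase 1
  have hA1 : A1.card = 2047 := by
    show ((Set.toFinite (A : Set G)).toFinset.erase 1).card = 2047
    rw [Finset.card_erase_of_mem (by simp), ← Nat.card_eq_card_finite_toFinset,
      show Nat.card (A : Set G) = 2 ^ 11 from hcardA]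
    norm_num
  have hsubA1 : ∀ x ∈ A, x ≠ 1 → orb N x ⊆ A1 := fun x hx hx1 y hy =>
    Finset.mem_erase.2 ⟨fun e => hone x hx1 (e ▸ hy), by simpa using horbA x hx y hy⟩
  have hXlt : X.card < 2047 := by
    rw [← hA1]
    exact Finset.card_lt_card ((Finset.ssubset_iff_of_subset (hsubA1 z hzA hz1)).2
      ⟨a * w, Finset.mem_erase.2 ⟨hb1, by simpa using hbA⟩, hbX⟩)
  have hX759 : X.card = 759 := by
    have hd : X.card * 322560 ∣
        2047 * 2046 * 2044 * 2040 * 2032 * 2016 * 1984 * 1920 * 1792 * 1536 * 1024 := by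
      rw [← card_GL_eleven, ← hq]
      exact Subgroup.card_dvd_of_injective rho hrho
    have key : ∀ i ≤ 8, ∀ j ≤ 2, i ≠ 0 → 31 + 140 * i + 448 * j < 2047 →
        (31 + 140 * i + 448 * j) * 322560 ∣
          2047 * 2046 * 2044 * 2040 * 2032 * 2016 * 1984 * 1920 * 1792 * 1536 * 1024 →
        31 + 140 * i + 448 * j = 759 := by decide +kernel
    rw [hXc] at hd hXlt ⊢
    exact key i hi j hj hi0 hXlt hd
  rw [hX759] at hcardN hq
  -- the second orbit
  set Y := orb N (a * w) with hY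
  have hdisj : Disjoint X Y := Finset.disjoint_left.2 fun y hy hy' => by
    obtain ⟨n, hn, rfl⟩ := mem_orb.1 hy
    obtain ⟨m, hm, e⟩ := mem_orb.1 hy'
    exact hbX (mem_orb.2 ⟨m⁻¹ * n, mul_mem (inv_mem hm) hn, by
      rw [show m⁻¹ * n * z * (m⁻¹ * n)⁻¹ = m⁻¹ * (n * z * n⁻¹) * m by group, ← e]; group⟩)
  obtain ⟨i', j', hi', hj', hYc, -⟩ := count_formula F hgood Y (horbA _ hbA) (horbst _)
  have hY0 : (fib D Y 0).card = 0 := by
    refine Finset.card_eq_zero.2 (Finset.eq_empty_of_forall_notMem fun y hy => ?_)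
    obtain ⟨hyY, hy0⟩ := Finset.mem_filter.1 hy
    exact Finset.disjoint_left.1 hdisj (hwX y ((mem_wTil_iff D (horbA _ hbA y hyY)).2 hy0)
      (fun e => hone _ hb1 (e ▸ hyY))) hyY
  rw [hY0, zero_add] at hYc
  have hunion : (X ∪ Y).card ≤ 2047 := hA1 ▸ Finset.card_le_card
    (Finset.union_subset (hsubA1 z hzA hz1) (hsubA1 _ hbA hb1))
  rw [Finset.card_union_of_disjoint hdisj, hX759] at hunion
  have hYpos : 0 < Y.card := Finset.card_pos.2 ⟨a * w, mem_orb.2 ⟨1, one_mem _, by group⟩⟩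
  have : Fact (Nat.Prime 23) := ⟨by norm_num⟩
  have h23 : 23 ∣ Y.card := by
    obtain ⟨m, hm⟩ := exists_prime_orderOf_dvd_card' (G := N ⧸ A.subgroupOf N) 23
      (by rw [hq]; norm_num)
    obtain ⟨n, rfl⟩ := QuotientGroup.mk_surjective m
    refine dvd_of_twentythree A hcomm hcardA (centralizer_le F) n.2 (fun hnA => ?_) ?_ Y
      (fun y hy => ⟨horbA _ hbA y hy, fun e => hone _ hb1 (e ▸ hy)⟩) fun y hy => orb_conj n.2 hy
    · have h1 : (n : N ⧸ A.subgroupOf N) = 1 := (QuotientGroup.eq_one_iff n).2 hnA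
      rw [h1, orderOf_one] at hm
      norm_num at hm
    · have h1 : ((n ^ 23 : N) : N ⧸ A.subgroupOf N) = 1 := by
        rw [QuotientGroup.mk_pow, ← hm, pow_orderOf_eq_one]
      exact (QuotientGroup.eq_one_iff (n ^ 23)).1 h1
  have hY1288 : Y.card = 1288 := by
    have key : ∀ i ≤ 8, ∀ j ≤ 2, 0 < 140 * i + 448 * j → 140 * i + 448 * j ≤ 1288 →
        23 ∣ 140 * i + 448 * j → 140 * i + 448 * j = 1288 := by decide +kernel
    rw [hYc] at hYpos hunion h23 ⊢
    exact key i' hi' j' hj' hYpos (by omega) h23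
  have hall : X ∪ Y = A1 := Finset.eq_of_subset_of_card_le
    (Finset.union_subset (hsubA1 z hzA hz1) (hsubA1 _ hbA hb1))
    (by rw [Finset.card_union_of_disjoint hdisj, hX759, hY1288, hA1])
  refine ⟨hnorm, isoM24 rho (by rw [hq]) hrho, hcardN, a * w, hbA, hb1,
    fun n hn e => hbX (mem_orb.2 ⟨n, hn, e⟩), fun c hc hc1 => ?_⟩
  have hcA1 : c ∈ A1 := Finset.mem_erase.2 ⟨hc1, by simpa using hc⟩
  rw [← hall] at hcA1
  rcases Finset.mem_union.1 hcA1 with h | h <;> obtain ⟨n, hn, e⟩ := mem_orb.1 h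
  · exact ⟨n⁻¹, inv_mem hn, Or.inl (by rw [← e]; group)⟩
  · exact ⟨n⁻¹, inv_mem hn, Or.inr (by rw [← e]; group)⟩

end CfsgLib.ConwayGolay
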