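import Mathlib.GroupTheory.Complement
import Mathlib.Tactic.Group

/-!
# A group generated by two commuting involutions and a third one with abelian conjugates
-/

set_option autoImplicit false

namespace CfsgLib.ConwayGolay

variable {H : Type*} [Group H]

/-- A power with exponent zero or one. -/
def pw2 (e : Bool) (x : H) : H := if e then x else 1

/-- The normal form. -/
def nform (a b x : H) (e : Bool × Bool × Bool × Bool × Bool × Bool) : H :=
  pw2 e.1 x * pw2 e.2.1 (a * x * a⁻¹) * pw2 e.2.2.1 (b * x * b⁻¹) *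
    pw2 e.2.2.2.1 (a * b * x * (a * b)⁻¹) * pw2 e.2.2.2.2.1 a * pw2 e.2.2.2.2.2 b

theorem exists_nform {a b x : H} (ha : a * a = 1) (hb : b * b = 1) (hx : x * x = 1)
    (hab : a * b = b * a) (h1 : Commute x (a * x * a⁻¹)) (h2 : Commute x (b * x * b⁻¹))
    (h3 : Commute x (a * b * x * (a * b)⁻¹)) :
    ∀ g ∈ Subgroup.closure ({a, b, x} : Set H), ∃ e, g = nform a b x e := by
  obtain ⟨y1, hy1⟩ : ∃ y, y = a * x * a⁻¹ := ⟨_, rfl⟩
  obtain ⟨y2, hy2⟩ : ∃ y, y = b * x * b⁻¹ := ⟨_, rfl⟩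
  obtain ⟨y3, hy3⟩ : ∃ y, y = a * b * x * (a * b)⁻¹ := ⟨_, rfl⟩
  rw [← hy1] at h1
  rw [← hy2] at h2
  rw [← hy3] at h3
  have hai : a⁻¹ = a := inv_eq_of_mul_eq_one_right ha
  have hbi : b⁻¹ = b := inv_eq_of_mul_eq_one_right hb
  have hxi : x⁻¹ = x := inv_eq_of_mul_eq_one_right hx
  have ax : a * x = y1 * a := by rw [hy1]; group
  have a1 : a * y1 = x * a := by
    rw [hy1, hai, show a * (a * x * a) = (a * a) * x * a by group, ha, one_mul]
  have a2 : a * y2 = y3 * a := by rw [hy2, hy3]; group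
  have a3 : a * y3 = y2 * a := by
    rw [hy2, hy3, show a * (a * b * x * (a * b)⁻¹) = (a * a) * b * x * b⁻¹ * a⁻¹ by group, ha, one_mul, hai]
  have bx : b * x = y2 * b := by rw [hy2]; group
  have b2 : b * y2 = x * b := by
    rw [hy2, hbi, show b * (b * x * b) = (b * b) * x * b by group, hb, one_mul]
  have b1 : b * y1 = y3 * b := by
    have hinv : (a * b)⁻¹ = a⁻¹ * b⁻¹ := by rw [hab, mul_inv_rev]
    rw [hy1, hy3, hinv, show b * (a * x * a⁻¹) = (b * a) * x * a⁻¹ by group, ← hab]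
    group
  have b3 : b * y3 = y1 * b := by
    rw [hy1, hy3, show b * (a * b * x * (a * b)⁻¹) = (b * (a * b)) * x * b⁻¹ * a⁻¹ by group,
      show b * (a * b) = (b * b) * a by rw [hab]; group, hb, one_mul]
    calc a * x * b⁻¹ * a⁻¹ = a * x * (b * a) := by rw [hbi, hai]; group
      _ = a * x * (a * b) := by rw [hab]
      _ = a * x * a⁻¹ * b := by rw [hai]; group
  -- the four conjugates commute
  have conjA : ∀ {p q p' q' : H}, a * p = p' * a → a * q = q' * a → Commute p q → Commute p' q' := by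
    intro p q p' q' e1 e2 h
    have hp : p' = a * p * a⁻¹ := by rw [e1]; group
    have hq : q' = a * q * a⁻¹ := by rw [e2]; group
    rw [hp, hq]
    exact (Commute.conj_iff a).2 h
  have c13 : Commute y1 y3 := conjA ax a2 h2
  have c12 : Commute y1 y2 := conjA ax a3 h3
  have c23 : Commute y2 y3 := by
    have hp : y2 = b * x * b⁻¹ := hy2
    have hq : y3 = b * y1 * b⁻¹ := by rw [b1]; group
    rw [hp, hq]
    exact (Commute.conj_iff b).2 h1
  have pc : ∀ {p q : H}, Commute p q → ∀ e f, Commute (pw2 e p) (pw2 f q) := by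
    intro p q h e f
    cases e <;> cases f <;> simp [pw2, h]
  have move : ∀ {g p q : H}, g * p = q * g → ∀ e, g * pw2 e p = pw2 e q * g := by
    intro g p q h e
    cases e <;> simp [pw2, h]
  intro g hg
  have hS : ∀ t ∈ ({a, b, x} : Set H), t⁻¹ = t := by
    rintro t (rfl | rfl | rfl)
    exacts [hai, hbi, hxi]
  have step : ∀ t ∈ ({a, b, x} : Set H), ∀ e, ∃ e', t * nform a b x e = nform a b x e' := by
    rintro t ht ⟨e0, e1, e2, e3, e4, e5⟩
    simp only [nform, ← hy1, ← hy2, ← hy3]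
    rcases ht with rfl | rfl | rfl
    · refine ⟨(e1, e0, e3, e2, !e4, e5), ?_⟩
      calc t * (pw2 e0 x * pw2 e1 y1 * pw2 e2 y2 * pw2 e3 y3 * pw2 e4 t * pw2 e5 b)
          = (t * pw2 e0 x) * pw2 e1 y1 * pw2 e2 y2 * pw2 e3 y3 * pw2 e4 t * pw2 e5 b := by group
        _ = pw2 e0 y1 * (t * pw2 e1 y1) * pw2 e2 y2 * pw2 e3 y3 * pw2 e4 t * pw2 e5 b := by
          rw [move ax e0]; group
        _ = (pw2 e0 y1 * pw2 e1 x) * (t * pw2 e2 y2) * pw2 e3 y3 * pw2 e4 t * pw2 e5 b := by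
          rw [move a1 e1]; group
        _ = (pw2 e0 y1 * pw2 e1 x) * pw2 e2 y3 * (t * pw2 e3 y3) * pw2 e4 t * pw2 e5 b := by
          rw [move a2 e2]; group
        _ = (pw2 e0 y1 * pw2 e1 x) * (pw2 e2 y3 * pw2 e3 y2) * (t * pw2 e4 t) * pw2 e5 b := by
          rw [move a3 e3]; group
        _ = _ := by
          rw [(pc h1.symm e0 e1).eq, (pc c23.symm e2 e3).eq]
          have : t * pw2 e4 t = pw2 (!e4) t := by cases e4 <;> simp [pw2, ha]
          rw [this]; group
    · refine ⟨(e2, e3, e0, e1, e4, !e5), ?_⟩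
      calc t * (pw2 e0 x * pw2 e1 y1 * pw2 e2 y2 * pw2 e3 y3 * pw2 e4 a * pw2 e5 t)
          = (t * pw2 e0 x) * pw2 e1 y1 * pw2 e2 y2 * pw2 e3 y3 * pw2 e4 a * pw2 e5 t := by group
        _ = pw2 e0 y2 * (t * pw2 e1 y1) * pw2 e2 y2 * pw2 e3 y3 * pw2 e4 a * pw2 e5 t := by
          rw [move bx e0]; group
        _ = (pw2 e0 y2 * pw2 e1 y3) * (t * pw2 e2 y2) * pw2 e3 y3 * pw2 e4 a * pw2 e5 t := by
          rw [move b1 e1]; group
        _ = (pw2 e0 y2 * pw2 e1 y3) * pw2 e2 x * (t * pw2 e3 y3) * pw2 e4 a * pw2 e5 t := by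
          rw [move b2 e2]; group
        _ = (pw2 e0 y2 * pw2 e1 y3) * (pw2 e2 x * pw2 e3 y1) * (t * pw2 e4 a) * pw2 e5 t := by
          rw [move b3 e3]; group
        _ = (pw2 e2 x * pw2 e3 y1) * (pw2 e0 y2 * pw2 e1 y3) * (pw2 e4 a * (t * pw2 e5 t)) := by
          rw [((pc h2.symm e0 e2).mul_left (pc h3.symm e1 e2)).mul_right
              ((pc c12.symm e0 e3).mul_left (pc c13.symm e1 e3)), move hab.symm e4]
          group
        _ = _ := by
          have : t * pw2 e5 t = pw2 (!e5) t := by cases e5 <;> simp [pw2, hb]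
          rw [this]; group
    · refine ⟨(!e0, e1, e2, e3, e4, e5), ?_⟩
      have : t * pw2 e0 t = pw2 (!e0) t := by cases e0 <;> simp [pw2, hx]
      simp only [← mul_assoc, this]
  induction hg using Subgroup.closure_induction_left with
  | one => exact ⟨(false, false, false, false, false, false), by simp [nform, pw2]⟩
  | mul_left t ht y _ ih =>
    obtain ⟨e, rfl⟩ := ih
    exact step t ht e
  | inv_mul_cancel t ht y _ ih =>
    obtain ⟨e, rfl⟩ := ih
    rw [hS t ht]
    exact step t ht e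

end CfsgLib.ConwayGolay
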