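import Cfsg.Agent.ConwayGolay.Bits
import Cfsg.Agent.ConwayType.RGroup

/-!
# Maps used for the splitting
-/

set_option autoImplicit false

namespace CfsgLib.ConwayGolay

open CfsgLib.ConwayType

/-- The first transvection. -/
def fA : V8 → V8 := tv (mk8 1) (mk8 8)

/-- The second transvection. -/
def fB : V8 → V8 := tv (mk8 16) (mk8 128)

/-- The third transvection. -/
def fX : V8 → V8 := tv (mk8 4) (mk8 32)

theorem f_facts : (∀ v, fA (fA v) = v) ∧ (∀ v, fB (fB v) = v) ∧ (∀ v, sie (mk8 8) v = fA v) ∧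
    (∀ v : V8, InW v → InW (fA v)) ∧ (∀ v : V8, InF v → InF (fA v)) ∧ fB s0 = s0 ∧
    fB (mk8 8) = mk8 8 ∧ fA (mk8 2) = mk8 10 ∧ InF (mk8 10) ∧ InU (mk8 8) ∧ q8 (mk8 8) = false ∧
    (∀ v, fX (fA (fX (fA v))) = tv (mk8 1) (mk8 32) v) ∧
    (∀ v, fX (fB (fX (fB v))) = tv (mk8 4) (mk8 128) v) ∧
    (∀ v, fX (fA (fB (fX (fB (fA v))))) = tv (mk8 1) (mk8 160) (tv (mk8 4) (mk8 128) v)) := by
  decide +kernel

theorem conj_word : (∀ p ∈ [((180 : ℕ), (252 : ℕ)), (48, 108)], okPair p = true ∧ pr p s0 = s0) ∧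
    pw [(180, 252), (48, 108)] (mk8 4) = mk8 16 ∧ pw [(180, 252), (48, 108)] (mk8 16) = mk8 128 ∧
    pU (pw [(180, 252), (48, 108)] (mk8 64)) = mk8 8 := by decide +kernel

/-- A map or the identity. -/
def pwf (e : Bool) (f : V8 → V8) (v : V8) : V8 := if e then f v else v

/-- The action of a normal form. -/
def nformV (e : Bool × Bool × Bool × Bool × Bool × Bool) (v : V8) : V8 :=
  pwf e.1 fX (pwf e.2.1 (fun v => fA (fX (fA v))) (pwf e.2.2.1 (fun v => fB (fX (fB v)))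
    (pwf e.2.2.2.1 (fun v => fA (fB (fX (fB (fA v))))) (pwf e.2.2.2.2.1 fA (pwf e.2.2.2.2.2 fB v)))))

theorem nformV_inj : ∀ e e' : Bool × Bool × Bool × Bool × Bool × Bool,
    eW.map (nformV e) = eW.map (nformV e') → e = e' := by decide +kernel

theorem nformV_zero : ∀ v : V8, nformV (false, false, false, false, false, false) v = v := fun _ => rfl

end CfsgLib.ConwayGolay
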