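import Cfsg.Agent.ConwayGolay.Frame4
import Cfsg.Agent.ConwayGolay.Relations
import Cfsg.Agent.ConwayGolay.SplitBits
import Cfsg.Agent.ConwayGolay.Orbits
import Cfsg.Agent.Solvable.Gaschutz

/-!
# The extension splits
-/

set_option autoImplicit false

namespace CfsgLib.ConwayGolay

open CfsgLib.ConwayType CfsgLib.LargeExtraspecial

theorem map_nform {H K : Type*} [Group H] [Group K] (f : H →* K) (a b x : H)
    (e : Bool × Bool × Bool × Bool × Bool × Bool) :
    f (nform a b x e) = nform (f a) (f b) (f x) e := by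
  have hp : ∀ (t : Bool) (h : H), f (pw2 t h) = pw2 t (f h) := fun t h => by
    cases t <;> simp [pw2]
  simp only [nform, map_mul, map_inv, hp]

variable {G : Type*} [Group G] [Finite G] {z s : G} {Q P : Subgroup G} {π : G → V8}
  (F : Frame z Q π P s)
include F

/-- An element of the Levi group inducing a given change of basis. -/
theorem exists_sigma {a b c d : V8} (hl : Indep [a, b, c, d]) (hW : ∀ v ∈ [a, b, c, d], InW v) :
    ∃ σ ∈ tGrp F.data, F.data.act σ (mk8 1) = a ∧ F.data.act σ (mk8 4) = b ∧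
      F.data.act σ (mk8 16) = c ∧ F.data.act σ (mk8 64) = d ∧
      ∀ f y, InF f → InF y → b8 y a = b8 f (mk8 1) → b8 y b = b8 f (mk8 4) →
        b8 y c = b8 f (mk8 16) → b8 y d = b8 f (mk8 64) → F.data.act σ f = y := by
  obtain ⟨g, hg, e1, e2, e3, e4⟩ := exists_basis_map F.data hl hW
  obtain ⟨σ, hσ, hact⟩ := exists_tGrp F.data hg
  refine ⟨σ, hσ, by rw [hact, e1], by rw [hact, e2], by rw [hact, e3], by rw [hact, e4],
    fun f y hf hy h1 h2 h3 h4 => by rw [hact]; exact lev_dual F.data hg e1 e2 e3 e4 hf hy h1 h2 h3 h4⟩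

/-- A conjugate of a lift with square in the complement. -/
theorem sigma_conj {σ g : G} (hσ : σ ∈ tGrp F.data) (hg : g ∈ tGrp F.data)
    (h2 : g * g ∈ eGrp F.data) :
    σ * g * σ⁻¹ ∈ tGrp F.data ∧ σ * g * σ⁻¹ * (σ * g * σ⁻¹) ∈ eGrp F.data :=
  ⟨mul_mem (mul_mem hσ hg) (inv_mem hσ), by
    rw [show σ * g * σ⁻¹ * (σ * g * σ⁻¹) = σ * (g * g) * σ⁻¹ by group]
    exact tGrp_conj F.data hσ h2⟩

theorem act_sigma_tv {σ g : G} (hσ : σ ∈ tGrp F.data) (hg : g ∈ tGrp F.data) {a c : V8}
    (h : ∀ v, F.data.act g v = tv a c v) (v : V8) :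
    F.data.act (σ * g * σ⁻¹) v = tv (F.data.act σ a) (F.data.act σ c) v := by
  rw [F.data.act_conj (tGrp_z _ hσ) (tGrp_z _ hg), h, tv_iso (F.data.act_iso (tGrp_z _ hσ)),
    (F.data.act_cancel (tGrp_z _ hσ) v).2]

/-- The first transvection lifts to an involution normalising the complement. -/
theorem exists_first : ∃ w, w ∈ P ∧ w * z = z * w ∧ F.ups w = mk8 8 ∧ w * w = 1 ∧ w ∈ tGrp F.data ∧
    ∀ v, F.data.act w v = fA v := by
  obtain ⟨-, -, hsie, -, -, -, -, h2, h10, hU8, hq8, -⟩ := f_facts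
  obtain ⟨w0, hw0, hwz0, hwu0⟩ := F.exists_ups hU8
  have hdata : ∀ w, w ∈ P → w * z = z * w → F.ups w = mk8 8 →
      w * w = 1 ∧ (∀ v, F.data.act w v = fA v) ∧
      ∀ u ∈ eF, u ≠ mk8 2 → w * F.data.sec u * w⁻¹ = F.data.sec u := by
    intro w hw hwz hwu
    refine ⟨by rw [F.W_sq hw hwz, hwu, hq8, Frame.ee_false],
      fun v => by rw [F.act_W hw hwz, hwu, hsie], fun u hu hne => ?_⟩
    have key : ∀ u ∈ eF, u ≠ mk8 2 → b8 u s0 = false ∧ b8 (pU u) (mk8 8) = false := by decide +kernel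
    obtain ⟨k1, k2⟩ := key u hu hne
    have hx := F.data.sec_mem u
    have hxs : F.data.sec u * s = s * F.data.sec u := (F.comm_s_iff hx).2 (by rw [F.data.π_sec]; exact k1)
    rw [(F.comm_QW hx hxs hw hwz).1, cls, F.data.π_sec, hwu, k2, Frame.ee_false, one_mul]
  obtain ⟨hE2, hE8, hE32, hE128⟩ := sec_mem_eGrp F.data
  have hmem : ∀ w, w ∈ P → w * z = z * w → F.ups w = mk8 8 →
      w * F.data.sec (mk8 2) * w⁻¹ = sect F.data (mk8 10) →
      ∃ w, w ∈ P ∧ w * z = z * w ∧ F.ups w = mk8 8 ∧ w * w = 1 ∧ w ∈ tGrp F.data ∧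
        ∀ v, F.data.act w v = fA v := by
    intro w hw hwz hwu hf2
    obtain ⟨hw2, hwact, hfix⟩ := hdata w hw hwz hwu
    refine ⟨w, hw, hwz, hwu, hw2, mem_tGrp F.data hwz fun u hu => ?_, hwact⟩
    by_cases hne : u = mk8 2
    · rw [hne, hf2]; exact sect_mem_eGrp F.data h10
    · rw [hfix u hu hne]
      simp only [eF, List.map_cons, List.map_nil, List.mem_cons, List.not_mem_nil, or_false] at hu
      rcases hu with rfl | rfl | rfl | rfl <;> assumption
  obtain ⟨-, hact0, -⟩ := hdata w0 hw0 hwz0 hwu0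
  have hy := F.data.sub.conj_mem hwz0 (F.data.sec_mem (mk8 2))
  have hπ : π (sect F.data (mk8 10)) = π (w0 * F.data.sec (mk8 2) * w0⁻¹) := by
    rw [π_sect F.data h10, ← F.data.act_π hwz0 (F.data.sec_mem _), F.data.π_sec, hact0, h2]
  rcases F.data.eq_or_eq_of_π_eq (sect_mem_Q F.data _) hy hπ with e | e
  · exact hmem w0 hw0 hwz0 hwu0 e
  · refine hmem (w0 * s) (mul_mem hw0 F.pair.subP.z_mem) (Commute.mul_left hwz0 F.s_comm).eq ?_ ?_
    · rw [F.ups_mul hw0 hwz0 F.pair.subP.z_mem F.s_comm, F.ups_memE (Or.inr (Or.inr (Or.inl rfl))),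
        add_zero, hwu0]
    · have hfs : s * F.data.sec (mk8 2) * s⁻¹ = z * F.data.sec (mk8 2) :=
        F.data.sub.conj_of_not_commute F.pair.mem (F.data.sec_mem _) fun hc => by
          have := (F.data.commute_iff F.pair.mem (F.data.sec_mem _)).1 hc
          rw [F.π_s, F.data.π_sec] at this
          exact absurd this (by decide)
      rw [show w0 * s * F.data.sec (mk8 2) * (w0 * s)⁻¹ =
          w0 * (s * F.data.sec (mk8 2) * s⁻¹) * w0⁻¹ by group, hfs,
        show w0 * (z * F.data.sec (mk8 2)) * w0⁻¹ = (w0 * z * w0⁻¹) * (w0 * F.data.sec (mk8 2) * w0⁻¹) by group,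
        mul_inv_eq_iff_eq_mul.2 hwz0, e, ← mul_assoc, F.data.sub.mul_self, one_mul]

/-- Two commuting transvections: the square of the product of their lifts. -/
theorem exists_second (hgood : Good F) : ∃ a b, a ∈ tGrp F.data ∧ b ∈ tGrp F.data ∧
    (∀ v, F.data.act a v = fA v) ∧ (∀ v, F.data.act b v = fB v) ∧
    a * a ∈ eGrp F.data ∧ b * b ∈ eGrp F.data ∧ a * b * (a * b) ∈ eGrp F.data := by
  obtain ⟨-, -, -, -, -, hBs, hB8, -, -, hU8, -⟩ := f_facts
  obtain ⟨w, hw, hwz, hwu, hw2, hwT, hwact⟩ := exists_first F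
  obtain ⟨σ, hσ, e1, -, -, -, hdual⟩ := exists_sigma F (a := mk8 16) (b := mk8 64) (c := mk8 1)
    (d := mk8 4) (by decide +kernel) (by decide +kernel)
  have e8 : F.data.act σ (mk8 8) = mk8 128 :=
    hdual _ _ (by decide) (by decide) (by decide) (by decide) (by decide) (by decide)
  obtain ⟨hn0T, hn02⟩ := sigma_conj F hσ hwT (by rw [hw2]; exact one_mem _)
  have hn0act : ∀ v, F.data.act (σ * w * σ⁻¹) v = fB v := fun v => by
    rw [act_sigma_tv F hσ hwT (fun v => hwact v) v, e1, e8]; rfl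
  -- make it commute with `s`
  obtain ⟨n, hnT, hnact, hns⟩ : ∃ n, n ∈ tGrp F.data ∧ (∀ v, F.data.act n v = fB v) ∧
      n * s = s * n := by
    generalize σ * w * σ⁻¹ = m at hn0T hn0act
    have hmz := tGrp_z _ hn0T
    have h1 : π s = π (m * s * m⁻¹) := by
      rw [← F.data.act_π hmz F.pair.mem, F.π_s, hn0act, hBs]
    rcases F.data.eq_or_eq_of_π_eq F.pair.mem (F.data.sub.conj_mem hmz F.pair.mem) h1 with e | e
    · exact ⟨m, hn0T, hn0act, mul_inv_eq_iff_eq_mul.1 e⟩
    · have hfQ := F.data.sec_mem (mk8 2)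
      have hfz := F.data.Q_comm hfQ
      have hfs : F.data.sec (mk8 2) * s * (F.data.sec (mk8 2))⁻¹ = z * s :=
        F.data.sub.conj_of_not_commute hfQ F.pair.mem fun hc => by
          have := (F.comm_s_iff hfQ).1 hc
          rw [F.data.π_sec] at this
          exact absurd this (by decide)
      refine ⟨F.data.sec (mk8 2) * m, mul_mem (eGrp_le_tGrp _ (sec_mem_eGrp F.data).1) hn0T,
        fun v => by rw [F.data.act_mul hfz hmz, F.data.act_of_mem hfQ, hn0act],
        mul_inv_eq_iff_eq_mul.1 ?_⟩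
      calc F.data.sec (mk8 2) * m * s * (F.data.sec (mk8 2) * m)⁻¹
          = (F.data.sec (mk8 2) * (m * s * m⁻¹) * (F.data.sec (mk8 2))⁻¹) := by group
        _ = (F.data.sec (mk8 2) * z * (F.data.sec (mk8 2))⁻¹) *
              (F.data.sec (mk8 2) * s * (F.data.sec (mk8 2))⁻¹) := by rw [e]; group
        _ = s := by
          rw [hfs, mul_inv_eq_iff_eq_mul.2 hfz, ← mul_assoc, F.data.sub.mul_self, one_mul]
  have hn2 : n * n ∈ eGrp F.data :=
    sq_congr F.data hn0T hnT (fun v => by rw [hn0act, hnact]) hn02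
  have hnz := tGrp_z _ hnT
  -- the exponent of `z`
  obtain ⟨hok, g4, g16, g64⟩ := conj_word
  obtain ⟨g, hg, hgs, hgv⟩ := F.exists_pw _ hok
  obtain ⟨n4, hn4, hn4s, hn4act⟩ := exists_root F
  have hpsi := psi_conj F (hgood n4 hn4 hn4s hn4act) hg hgs
  rw [hgv, g64] at hpsi
  have hR : F.InR ((g * n4 * g⁻¹)⁻¹ * n) := inR_of_same F hpsi.1 hpsi.2.1 hnz hns fun u _ => by
    rw [hnact, F.data.act_conj hg hn4, hn4act, tv_iso (F.data.act_iso hg), hgv, hgv, g4, g16,
      (F.data.act_cancel hg u).2]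
    rfl
  have hpsi' := psi_mul F hpsi (psi_inR F hU8 hR)
  rw [mul_inv_cancel_left, Bool.xor_self] at hpsi'
  obtain ⟨-, hE8, -, -⟩ := sec_mem_eGrp F.data
  have hx := F.data.sec_mem (mk8 8)
  have hxs : F.data.sec (mk8 8) * s = s * F.data.sec (mk8 8) :=
    (F.comm_s_iff hx).2 (by rw [F.data.π_sec]; decide)
  obtain ⟨j, k, i, l, f1, f2, f3⟩ := psi_exp F hpsi' hx hxs (by rw [cls, F.data.π_sec]; decide) hw hwz hwu
  have hfix : n * F.data.sec (mk8 8) * n⁻¹ = ee z s false false * F.data.sec (mk8 8) := by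
    rw [Frame.ee_false, one_mul]
    refine eGrp_inj F.data (tGrp_conj _ hnT hE8) hE8 ?_
    rw [← F.data.act_π hnz hx, F.data.π_sec, hnact, hB8]
  obtain ⟨rfl, rfl⟩ := F.ee_mul_inj (f1.symm.trans hfix)
  have hi : i = false := by simpa using f3.symm
  subst hi
  have hsq : w * n * (w * n) = ee z s false l * (n * n) := by
    calc w * n * (w * n) = w * (n * w * n⁻¹) * (n * n) := by group
      _ = (w * ee z s false l * w⁻¹) * (w * w) * (n * n) := by rw [f2]; group
      _ = _ := by rw [F.conj_ee _ _ hwz (F.W_comm_s hw), hw2, mul_one]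
  refine ⟨w, n, hwT, hnT, hwact, hnact, by rw [hw2]; exact one_mem _, hn2, ?_⟩
  cases l
  · rw [hsq, Frame.ee_false, one_mul]; exact hn2
  · exfalso
    have hee : ee z s false true = s := by simp [ee]
    rw [hee] at hsq
    have hsT : s ∈ tGrp F.data := by
      have h := mul_mem (mul_mem (mul_mem hwT hnT) (mul_mem hwT hnT))
        (inv_mem (eGrp_le_tGrp _ hn2))
      rwa [hsq, mul_inv_cancel_right] at h
    obtain ⟨e, he, hcase⟩ := tGrp_inf_Q F.data F.pair.mem hsT
    refine inF_facts.2.1 ?_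
    rw [← F.π_s]
    rcases hcase with r | r <;> rw [r]
    · exact he.2.1
    · rw [F.data.π_z_mul he.1]; exact he.2.1

/-- A subgroup meeting the centralizer trivially, of order `2 ^ 10`. -/
theorem exists_small_complement (hgood : Good F) :
    ∃ K : Subgroup G, K ≤ Subgroup.normalizer (theA F.data : Set G) ∧ theA F.data ⊓ K = ⊥ ∧
      Nat.card K = 1024 := by
  classical
  obtain ⟨hAA, hBB, -, -, -, -, -, -, -, -, -, p1, p2, p3⟩ := f_facts
  obtain ⟨a, b, haT, hbT, haact, hbact, ha2, hb2, hab2⟩ := exists_second F hgood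
  -- the third transvection, and the three products
  have mk : ∀ {p q r t : V8} (f' : V8), Indep [p, q, r, t] → (∀ v ∈ [p, q, r, t], InW v) → InF f' →
      b8 f' p = false → b8 f' q = true → b8 f' r = false → b8 f' t = false →
      ∃ g, g ∈ tGrp F.data ∧ (∀ v, F.data.act g v = tv p f' v) ∧ g * g ∈ eGrp F.data := by
    intro p q r t f' hl hW hf' h1 h2 h3 h4
    obtain ⟨σ, hσ, e1, -, -, -, hdual⟩ := exists_sigma F hl hW
    have e8 : F.data.act σ (mk8 8) = f' := hdual _ _ (by decide) hf' (by rw [h1]; decide)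
      (by rw [h2]; decide) (by rw [h3]; decide) (by rw [h4]; decide)
    obtain ⟨h5, h6⟩ := sigma_conj F hσ haT ha2
    exact ⟨_, h5, fun v => by rw [act_sigma_tv F hσ haT (fun v => haact v) v, e1, e8], h6⟩
  obtain ⟨x, hxT, hxact, hx2⟩ := mk (p := mk8 4) (q := mk8 16) (r := mk8 1) (t := mk8 64) (mk8 32)
    (by decide +kernel) (by decide +kernel) (by decide) (by decide) (by decide) (by decide) (by decide)
  obtain ⟨y1, hy1T, hy1act, hy12⟩ := mk (p := mk8 1) (q := mk8 16) (r := mk8 4) (t := mk8 64) (mk8 32)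
    (by decide +kernel) (by decide +kernel) (by decide) (by decide) (by decide) (by decide) (by decide)
  obtain ⟨y2, hy2T, hy2act, hy22⟩ := mk (p := mk8 4) (q := mk8 64) (r := mk8 1) (t := mk8 16) (mk8 128)
    (by decide +kernel) (by decide +kernel) (by decide) (by decide) (by decide) (by decide) (by decide)
  obtain ⟨σ, hσ, s1, -, s16, -, hdual⟩ := exists_sigma F (a := mk8 1) (b := mk8 16) (c := mk8 4)
    (d := mk8 80) (by decide +kernel) (by decide +kernel)
  have s8 : F.data.act σ (mk8 8) = mk8 160 :=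
    hdual _ _ (by decide) (by decide) (by decide) (by decide) (by decide) (by decide)
  have s128 : F.data.act σ (mk8 128) = mk8 128 :=
    hdual _ _ (by decide) (by decide) (by decide) (by decide) (by decide) (by decide)
  obtain ⟨hy3T, hy32⟩ := sigma_conj F hσ (mul_mem haT hbT) hab2
  have hz : ∀ {g : G}, g ∈ tGrp F.data → g * z = z * g := fun h => tGrp_z _ h
  have actm : ∀ {g h : G}, g ∈ tGrp F.data → h ∈ tGrp F.data →
      ∀ v, F.data.act (g * h) v = F.data.act g (F.data.act h v) := fun hg hh v =>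
    F.data.act_mul (hz hg) (hz hh) v
  have aI : ∀ v, F.data.act a⁻¹ v = fA v := fun v => by
    conv_lhs => rw [← hAA v, ← haact]
    exact (F.data.act_cancel (hz haT) _).1
  have bI : ∀ v, F.data.act b⁻¹ v = fB v := fun v => by
    conv_lhs => rw [← hBB v, ← hbact]
    exact (F.data.act_cancel (hz hbT) _).1
  have abI : ∀ v, F.data.act (a * b)⁻¹ v = fB (fA v) := fun v => by
    rw [mul_inv_rev, actm (inv_mem hbT) (inv_mem haT), aI, bI]
  have hxact' : ∀ v, F.data.act x v = fX v := hxact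
  have hy3act : ∀ v, F.data.act (σ * (a * b) * σ⁻¹) v = tv (mk8 1) (mk8 160) (tv (mk8 4) (mk8 128) v) :=
    fun v => by
      rw [F.data.act_conj (hz hσ) (hz (mul_mem haT hbT)), actm haT hbT, hbact, haact, fA, fB,
        tv_iso (F.data.act_iso (hz hσ)), tv_iso (F.data.act_iso (hz hσ)), s1, s8, s16, s128,
        (F.data.act_cancel (hz hσ) v).2]
  have c1 : x * (a * x * a⁻¹) * (x * (a * x * a⁻¹)) ∈ eGrp F.data :=
    sq_congr F.data hy1T (mul_mem hxT (mul_mem (mul_mem haT hxT) (inv_mem haT))) (fun v => by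
      rw [hy1act, actm hxT (mul_mem (mul_mem haT hxT) (inv_mem haT)),
        actm (mul_mem haT hxT) (inv_mem haT), actm haT hxT, aI, hxact', haact, hxact', p1]) hy12
  have c2 : x * (b * x * b⁻¹) * (x * (b * x * b⁻¹)) ∈ eGrp F.data :=
    sq_congr F.data hy2T (mul_mem hxT (mul_mem (mul_mem hbT hxT) (inv_mem hbT))) (fun v => by
      rw [hy2act, actm hxT (mul_mem (mul_mem hbT hxT) (inv_mem hbT)),
        actm (mul_mem hbT hxT) (inv_mem hbT), actm hbT hxT, bI, hxact', hbact, hxact', p2]) hy22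
  have c3 : x * (a * b * x * (a * b)⁻¹) * (x * (a * b * x * (a * b)⁻¹)) ∈ eGrp F.data :=
    sq_congr F.data hy3T (mul_mem hxT (mul_mem (mul_mem (mul_mem haT hbT) hxT)
      (inv_mem (mul_mem haT hbT)))) (fun v => by
      rw [hy3act, actm hxT (mul_mem (mul_mem (mul_mem haT hbT) hxT) (inv_mem (mul_mem haT hbT))),
        actm (mul_mem (mul_mem haT hbT) hxT) (inv_mem (mul_mem haT hbT)),
        actm (mul_mem haT hbT) hxT, actm haT hbT, abI, hxact', hbact, haact, hxact', p3]) hy32
  -- the quotient by the complement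
  set T := tGrp F.data
  set E' := (eGrp F.data).subgroupOf T with hE'
  haveI : E'.Normal := ⟨fun n hn g => tGrp_conj F.data g.2 hn⟩
  let q := QuotientGroup.mk' E'
  have hone : ∀ t : T, (t : G) ∈ eGrp F.data → q t = 1 := fun t ht => (QuotientGroup.eq_one_iff t).2 ht
  let A' : T := ⟨a, haT⟩
  let B' : T := ⟨b, hbT⟩
  let X' : T := ⟨x, hxT⟩
  have qa : q A' * q A' = 1 := by rw [← map_mul]; exact hone _ ha2
  have qb : q B' * q B' = 1 := by rw [← map_mul]; exact hone _ hb2
  have qx : q X' * q X' = 1 := by rw [← map_mul]; exact hone _ hx2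
  have invol : ∀ {u v : T ⧸ E'}, u * u = 1 → v * v = 1 → u * v * (u * v) = 1 → u * v = v * u := by
    intro u v hu hv h
    calc u * v = u * (u * v * (u * v)) * v := by rw [h, mul_one]
      _ = (u * u) * (v * u) * (v * v) := by group
      _ = v * u := by rw [hu, hv, one_mul, mul_one]
  have qconj : ∀ {u t : T ⧸ E'}, u * u = 1 → t * u * t⁻¹ * (t * u * t⁻¹) = 1 := by
    intro u t hu
    rw [show t * u * t⁻¹ * (t * u * t⁻¹) = t * (u * u) * t⁻¹ by group, hu]; group
  have qab : q A' * q B' = q B' * q A' :=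
    invol qa qb (by rw [← map_mul, ← map_mul]; exact hone _ hab2)
  have h1 : Commute (q X') (q A' * q X' * (q A')⁻¹) := invol qx (qconj qx) (by
    simp only [← map_inv, ← map_mul]; exact hone _ c1)
  have h2 : Commute (q X') (q B' * q X' * (q B')⁻¹) := invol qx (qconj qx) (by
    simp only [← map_inv, ← map_mul]; exact hone _ c2)
  have h3 : Commute (q X') (q A' * q B' * q X' * (q A' * q B')⁻¹) := invol qx (qconj qx) (by
    simp only [← map_inv, ← map_mul]; exact hone _ c3)
  let K0 : Subgroup T := (Subgroup.closure ({q A', q B', q X'} : Set (T ⧸ E'))).comap q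
  let K : Subgroup G := K0.map T.subtype
  let nf : Bool × Bool × Bool × Bool × Bool × Bool → T := fun e => nform A' B' X' e
  have hnf : ∀ e v, F.data.act ((nf e : T) : G) v = nformV e v := by
    intro e v
    have hpT : ∀ (t : Bool) (g : G), g ∈ T → pw2 t g ∈ T := fun t g hg => by
      cases t
      · exact one_mem _
      · exact hg
    have hp : ∀ (t : Bool) (g : G) (f : V8 → V8), g ∈ T → (∀ v, F.data.act g v = f v) →
        ∀ v, F.data.act (pw2 t g) v = pwf t f v := by
      intro t g f _ hgf v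
      cases t
      · exact F.data.act_one v
      · exact hgf v
    have t1 := mul_mem (mul_mem haT hxT) (inv_mem haT)
    have t2 := mul_mem (mul_mem hbT hxT) (inv_mem hbT)
    have t3 := mul_mem (mul_mem (mul_mem haT hbT) hxT) (inv_mem (mul_mem haT hbT))
    have ay : ∀ v, F.data.act (a * x * a⁻¹) v = fA (fX (fA v)) := fun v => by
      rw [actm (mul_mem haT hxT) (inv_mem haT), actm haT hxT, aI, hxact', haact]
    have by' : ∀ v, F.data.act (b * x * b⁻¹) v = fB (fX (fB v)) := fun v => by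
      rw [actm (mul_mem hbT hxT) (inv_mem hbT), actm hbT hxT, bI, hxact', hbact]
    have ab : ∀ v, F.data.act (a * b * x * (a * b)⁻¹) v = fA (fB (fX (fB (fA v)))) := fun v => by
      rw [actm (mul_mem (mul_mem haT hbT) hxT) (inv_mem (mul_mem haT hbT)),
        actm (mul_mem haT hbT) hxT, actm haT hbT, abI, hxact', hbact, haact]
    rw [show ((nf e : T) : G) = nform a b x e from map_nform T.subtype A' B' X' e]
    obtain ⟨e0, e1, e2, e3, e4, e5⟩ := e
    simp only [nform, nformV]
    rw [actm (mul_mem (mul_mem (mul_mem (mul_mem (hpT e0 x hxT) (hpT e1 _ t1)) (hpT e2 _ t2))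
        (hpT e3 _ t3)) (hpT e4 a haT)) (hpT e5 b hbT),
      actm (mul_mem (mul_mem (mul_mem (hpT e0 x hxT) (hpT e1 _ t1)) (hpT e2 _ t2)) (hpT e3 _ t3))
        (hpT e4 a haT),
      actm (mul_mem (mul_mem (hpT e0 x hxT) (hpT e1 _ t1)) (hpT e2 _ t2)) (hpT e3 _ t3),
      actm (mul_mem (hpT e0 x hxT) (hpT e1 _ t1)) (hpT e2 _ t2),
      actm (hpT e0 x hxT) (hpT e1 _ t1),
      hp e0 x fX hxT hxact', hp e1 _ _ t1 ay, hp e2 _ _ t2 by', hp e3 _ _ t3 ab,
      hp e4 a fA haT haact, hp e5 b fB hbT hbact]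
  have hform : ∀ g ∈ K, ∃ e, ∃ y ∈ eGrp F.data, g = (nf e : G) * y := by
    rintro _ ⟨t, ht, rfl⟩
    obtain ⟨e, he⟩ := exists_nform qa qb qx qab h1 h2 h3 (q t) ht
    rw [← map_nform q] at he
    refine ⟨e, ((nf e)⁻¹ * t : T), ?_, ?_⟩
    · exact (QuotientGroup.eq.1 he.symm : (nf e)⁻¹ * t ∈ E')
    · show (t : G) = (nf e : G) * (((nf e)⁻¹ * t : T) : G)
      simp
  have hKT : K ≤ T := Subgroup.map_subtype_le _
  have hzK : z ∉ K := fun h => by
    obtain ⟨e, y, hy, he⟩ := hform z h
    have he0 : e = (false, false, false, false, false, false) := nformV_inj e _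
      (List.map_congr_left fun v _ => by
        have h1 := congrArg (fun g : G => F.data.act g v) he
        simp only [F.data.act_of_mem F.data.sub.z_mem] at h1
        rw [F.data.act_mul (hz (nf e).2) (F.data.Q_comm hy.1), F.data.act_of_mem hy.1, hnf] at h1
        exact h1.symm)
    have hnf1 : ((nf e : T) : G) = 1 := by
      rw [he0, show ((nf (false, false, false, false, false, false) : T) : G) =
        nform a b x (false, false, false, false, false, false) from map_nform T.subtype A' B' X' _]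
      simp [nform, pw2]
    rw [hnf1, one_mul] at he
    exact z_not_mem_eGrp F.data (he ▸ hy)
  have hKA : theA F.data ⊓ K = ⊥ := (Subgroup.eq_bot_iff_forall _).2 fun k hk =>
    (tGrp_inf_theA F.data (hKT hk.2) hk.1).resolve_right fun e => hzK (e ▸ hk.2)
  have hKN : K ≤ Subgroup.normalizer (theA F.data : Set G) := by
    have hn : ∀ g : G, (∀ v, InW v → InW (F.data.act g v)) → g ∈ T →
        g ∈ Subgroup.normalizer (theA F.data : Set G) := fun g hg hgT =>
      stW_le_normalizer F ⟨hz hgT, hg, by simp⟩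
    intro g hg
    obtain ⟨e, y, hy, rfl⟩ := hform g hg
    refine hn _ (fun v hv => ?_) (hKT hg)
    rw [actm (nf e).2 (eGrp_le_tGrp _ hy), F.data.act_of_mem hy.1, hnf]
    have key : ∀ e : Bool × Bool × Bool × Bool × Bool × Bool, ∀ u ∈ eW, InW (nformV e u) := by
      decide +kernel
    obtain ⟨k, -, rfl⟩ := inW_cases v hv
    have hiso := F.data.act_iso (hz (nf e).2)
    rw [← hnf, ← bitsum_map hiso.add hiso.zero]
    refine forall_bitsum (p := fun v => InW v) inW_zero.1 (fun _ _ => inW_add _ _) _ ?_ k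
    intro u hu
    obtain ⟨u', hu', rfl⟩ := List.mem_map.1 hu
    rw [hnf]
    exact key e u' hu'
  refine ⟨K, hKN, hKA, le_antisymm ?_ ?_⟩
  · have h64 : Nat.card (Bool × Bool × Bool × Bool × Bool × Bool) = 64 := by simp
    have hE : Nat.card (eGrp F.data) ≤ 16 := by
      rw [← fList_card, ← Nat.card_eq_finsetCard]
      refine Nat.card_le_card_of_injective (fun y => (⟨π (y : G), Finset.mem_filter.2
        ⟨Finset.mem_univ _, y.2.2.1⟩⟩ : {v // v ∈ _})) fun y y' h => Subtype.ext
          (eGrp_inj F.data y.2 y'.2 (congrArg Subtype.val h))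
    have hsurj : ∀ g : K, ∃ p : (Bool × Bool × Bool × Bool × Bool × Bool) × eGrp F.data,
        (g : G) = (nf p.1 : G) * p.2.1 := fun g => by
      obtain ⟨e, y, hy, he⟩ := hform g g.2
      exact ⟨(e, ⟨y, hy⟩), he⟩
    choose p hp using hsurj
    have := Nat.card_le_card_of_injective p fun g g' h => Subtype.ext (by rw [hp g, h, ← hp g'])
    rw [Nat.card_prod, h64] at this
    have : 64 * Nat.card (eGrp F.data) ≤ 64 * 16 := Nat.mul_le_mul_left 64 hE
    omega
  · have h64 : Nat.card (Bool × Bool × Bool × Bool × Bool × Bool) = 64 := by simp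
    have hE : 16 ≤ Nat.card (eGrp F.data) := by
      rw [← fList_card, ← Nat.card_eq_finsetCard]
      refine Nat.card_le_card_of_injective (fun v => (⟨sect F.data v.1,
        sect_mem_eGrp F.data (Finset.mem_filter.1 v.2).2⟩ : eGrp F.data)) fun v v' h => Subtype.ext ?_
      have h' := congrArg (fun t : eGrp F.data => π (t : G)) h
      simpa only [π_sect F.data (Finset.mem_filter.1 v.2).2,
        π_sect F.data (Finset.mem_filter.1 v'.2).2] using h'
    have hKmem : ∀ (e : Bool × Bool × Bool × Bool × Bool × Bool) (y : eGrp F.data),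
        (nf e : G) * y.1 ∈ K := fun e y => by
      refine ⟨nf e * ⟨y.1, eGrp_le_tGrp _ y.2⟩, ?_, rfl⟩
      show q (nf e * _) ∈ Subgroup.closure _
      rw [map_mul, hone ⟨y.1, eGrp_le_tGrp _ y.2⟩ y.2, mul_one, map_nform q]
      have hg : ∀ t ∈ ({q A', q B', q X'} : Set (T ⧸ E')), t ∈ Subgroup.closure
          ({q A', q B', q X'} : Set (T ⧸ E')) := fun t ht => Subgroup.subset_closure ht
      have ga := hg (q A') (by simp)
      have gb := hg (q B') (by simp)
      have gx := hg (q X') (by simp)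
      have hp2 : ∀ (t : Bool) {g : T ⧸ E'}, g ∈ Subgroup.closure ({q A', q B', q X'} : Set (T ⧸ E')) →
          pw2 t g ∈ Subgroup.closure ({q A', q B', q X'} : Set (T ⧸ E')) := fun t g h => by
        cases t
        · exact one_mem _
        · exact h
      exact mul_mem (mul_mem (mul_mem (mul_mem (mul_mem (hp2 _ gx)
        (hp2 _ (mul_mem (mul_mem ga gx) (inv_mem ga)))) (hp2 _ (mul_mem (mul_mem gb gx) (inv_mem gb))))
        (hp2 _ (mul_mem (mul_mem (mul_mem ga gb) gx) (inv_mem (mul_mem ga gb))))) (hp2 _ ga)) (hp2 _ gb)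
    have := Nat.card_le_card_of_injective
      (fun p : (Bool × Bool × Bool × Bool × Bool × Bool) × eGrp F.data =>
        (⟨_, hKmem p.1 p.2⟩ : K)) fun p p' h => by
      have h' : (nf p.1 : G) * p.2.1 = (nf p'.1 : G) * p'.2.1 := congrArg Subtype.val h
      have he : p.1 = p'.1 := nformV_inj _ _ (List.map_congr_left fun v _ => by
        have := congrArg (fun g : G => F.data.act g v) h'
        rwa [actm (nf p.1).2 (eGrp_le_tGrp _ p.2.2), actm (nf p'.1).2 (eGrp_le_tGrp _ p'.2.2),
          F.data.act_of_mem p.2.2.1, F.data.act_of_mem p'.2.2.1, hnf, hnf] at this)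
      rw [he] at h'
      exact Prod.ext he (Subtype.ext (mul_left_cancel h'))
    rw [Nat.card_prod, h64] at this
    have : 64 * 16 ≤ 64 * Nat.card (eGrp F.data) := Nat.mul_le_mul_left 64 hE
    omega

/-- The extension splits. -/
theorem exists_complement (hgood : Good F) :
    ∃ K : Subgroup ↥(Subgroup.normalizer (theA F.data : Set G)),
      ((theA F.data).subgroupOf (Subgroup.normalizer (theA F.data : Set G))).IsComplement' K := by
  classical
  obtain ⟨hnorm, -, hcardN, -⟩ := structure_facts F hgood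
  obtain ⟨K, hKN, hKA, hKcard⟩ := exists_small_complement F hgood
  set N := Subgroup.normalizer (theA F.data : Set G)
  haveI := hnorm
  haveI hab : IsMulCommutative ((theA F.data).subgroupOf N) :=
    ⟨⟨fun u v => Subtype.ext (Subtype.ext (theA_comm F hgood u.2 v.2))⟩⟩
  set A' := (theA F.data).subgroupOf N with hA'
  set K' := K.subgroupOf N with hK'
  have hcardA : Nat.card A' = 2048 := by
    rw [Nat.card_congr (Subgroup.subgroupOfEquivOfLe (Subgroup.le_normalizer)).toEquiv,
      card_theA F hgood]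
    norm_num
  have hcardK : Nat.card K' = 1024 := by
    rw [Nat.card_congr (Subgroup.subgroupOfEquivOfLe hKN).toEquiv, hKcard]
  have hinf : K' ⊓ A' = ⊥ := (Subgroup.eq_bot_iff_forall _).2 fun k hk => Subtype.ext
    ((Subgroup.eq_bot_iff_forall _).1 hKA k ⟨hk.2, hk.1⟩)
  set U := A' ⊔ K' with hU
  have hcardU : Nat.card U = 2048 * 1024 := by
    rw [← hcardA, ← hcardK, ← Nat.card_prod]
    refine (Nat.card_eq_of_bijective (fun p : A' × K' =>
      (⟨p.1.1 * p.2.1, Subgroup.mul_mem_sup p.1.2 p.2.2⟩ : U)) ⟨fun p p' h => ?_, fun u => ?_⟩).symm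
    · have h' : (p.1.1 : N) * p.2.1 = p'.1.1 * p'.2.1 := congrArg Subtype.val h
      have hm : (p'.1.1 : N)⁻¹ * p.1.1 ∈ K' ⊓ A' := by
        refine ⟨?_, A'.mul_mem (A'.inv_mem p'.1.2) p.1.2⟩
        have : (p'.1.1 : N)⁻¹ * p.1.1 = p'.2.1 * (p.2.1 : N)⁻¹ := by
          rw [inv_mul_eq_iff_eq_mul, ← mul_assoc, ← h', mul_inv_cancel_right]
        rw [this]
        exact K'.mul_mem p'.2.2 (K'.inv_mem p.2.2)
      rw [hinf, Subgroup.mem_bot, inv_mul_eq_one] at hm
      refine Prod.ext (Subtype.ext hm.symm) (Subtype.ext ?_)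
      rw [hm] at h'
      exact mul_left_cancel h'
    · have hu : (u : N) ∈ ((A' ⊔ K' : Subgroup N) : Set N) := u.2
      rw [Subgroup.normal_mul] at hu
      obtain ⟨y, hy, k, hk, e⟩ := hu
      exact ⟨(⟨y, hy⟩, ⟨k, hk⟩), Subtype.ext e⟩
  have hindex : U.index = 759 * 315 := by
    have h := U.card_mul_index
    rw [hcardU, hcardN] at h
    omega
  exact CfsgLib.Solvable.exists_complement_of_gaschutz (U := U) le_sup_left
    (by rw [hcardA, hindex]; norm_num) hinf rfl

end CfsgLib.ConwayGolay
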