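import Cfsg.Agent.ConwayGolay.TheA

/-!
# In the good family the centralizer is elementary abelian of order `2 ^ 11`
-/

set_option autoImplicit false

namespace CfsgLib.ConwayGolay

open CfsgLib.ConwayType CfsgLib.LargeExtraspecial

theorem basis_facts :
    (∀ i : Fin 4, ∀ j : Fin 4, ∀ k : Fin 4, ∀ l : Fin 4, i ≠ j → i ≠ k → i ≠ l → j ≠ k → j ≠ l →
      k ≠ l → Indep [eW.get ⟨i, i.isLt⟩, eW.get ⟨j, j.isLt⟩, eW.get ⟨k, k.isLt⟩, eW.get ⟨l, l.isLt⟩]) ∧
    (∀ v : V8, sie (mk8 64) v = tv (mk8 1) (mk8 64) v) ∧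
    (∀ v : V8, sie (mk8 16) v = tv (mk8 1) (mk8 16) v) ∧
    cls (id : V8 → V8) (mk8 64) = mk8 64 := by decide +kernel

variable {G : Type*} [Group G] {z s : G} {Q P : Subgroup G} {π : G → V8}

/-- Elements of the centralizer acting as the Siegel map of two vectors. -/
def IsLift (D : Data z Q π) (a c : V8) (m : G) : Prop :=
  m ∈ theA D ∧ ∀ v, D.act m v = tv a c v

/-- Lifts of two Siegel maps commute. -/
def CommT (D : Data z Q π) (a c x y : V8) : Prop :=
  ∀ m n, IsLift D a c m → IsLift D x y n → m * n = n * m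

variable (F : Frame z Q π P s)
include F

theorem s_mem_wTil : s ∈ wTil F.data := ⟨F.pair.mem, by rw [F.π_s]; exact inW_zero.2.1⟩

theorem theA_comm_s {a : G} (ha : a ∈ theA F.data) : a * s = s * a :=
  ((mem_theA F.data).1 ha s F.pair.mem (s_mem_wTil F).2).symm

theorem wTil_comm {x a : G} (hx : x ∈ wTil F.data) (ha : a ∈ theA F.data) : x * a = a * x :=
  Subgroup.mem_centralizer_iff.1 ha x hx

theorem lift_diff {a c : V8} {m m' : G} (h : IsLift F.data a c m) (h' : IsLift F.data a c m') :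
    m⁻¹ * m' ∈ wTil F.data :=
  inv_mul_mem_wTil F.data h.1 h'.1 (by rw [acode, acode, funext h.2, funext h'.2])

theorem commT_of_one {a c x y : V8} {m n : G} (hm : IsLift F.data a c m) (hn : IsLift F.data x y n)
    (h : m * n = n * m) : CommT F.data a c x y := by
  intro m' n' hm' hn'
  have h1 := lift_diff F hm hm'
  have h2 := lift_diff F hn hn'
  rw [← mul_inv_cancel_left m m', ← mul_inv_cancel_left n n']
  have e1 : Commute (m⁻¹ * m') n := wTil_comm F h1 hn.1
  have e2 : Commute m (n⁻¹ * n') := (wTil_comm F h2 hm.1).symm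
  have e3 : Commute (m⁻¹ * m') (n⁻¹ * n') := wTil_comm F h1 (wTil_le _ h2)
  exact ((Commute.mul_right h e2).mul_left (Commute.mul_right e1 e3)).eq

theorem commT_symm {a c x y : V8} (h : CommT F.data a c x y) : CommT F.data x y a c :=
  fun m n hm hn => (h n m hn hm).symm

variable [Finite G]

theorem commT_map {a c x y : V8} (h : CommT F.data a c x y) {g : G} (hg : Lev F.data g) :
    CommT F.data (F.data.act g a) (F.data.act g c) (F.data.act g x) (F.data.act g y) := by
  intro m n hm hn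
  have hgi := lev_inv F.data hg
  have pull : ∀ {u v : V8} {k : G}, IsLift F.data (F.data.act g u) (F.data.act g v) k →
      IsLift F.data u v (g⁻¹ * k * g⁻¹⁻¹) := fun {u v k} hk =>
    ⟨lev_conj_mem F.data hgi hk.1, fun w => by
      rw [F.data.act_conj hgi.1 (theA_comm_z _ hk.1), hk.2, tv_iso (F.data.act_iso hgi.1),
        (F.data.act_cancel hg.1 u).1, (F.data.act_cancel hg.1 v).1, (F.data.act_cancel hgi.1 w).2]⟩
  have e := h _ _ (pull hm) (pull hn)
  exact (Commute.conj_iff g⁻¹).1 e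

theorem lift_map {a c : V8} {m g : G} (h : IsLift F.data a c m) (hg : Lev F.data g) :
    IsLift F.data (F.data.act g a) (F.data.act g c) (g * m * g⁻¹) :=
  ⟨lev_conj_mem F.data hg h.1, fun w => by
    rw [F.data.act_conj hg.1 (theA_comm_z _ h.1), h.2, tv_iso (F.data.act_iso hg.1),
      (F.data.act_cancel hg.1 w).2]⟩

theorem mem_theA_of_W {w : G} (hw : w ∈ P) (hwz : w * z = z * w) (hu : InW (F.ups w)) :
    w ∈ theA F.data := by
  refine (mem_theA F.data).2 fun x hx hxW => ?_
  have hxs : x * s = s * x := (F.comm_s_iff hx).2 (inW_pU _ hxW).2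
  have h := (F.comm_QW hx hxs hw hwz).2
  rw [inW_orth (cls π x) (inW_pU _ hxW).1 _ hu, Frame.ee_false, one_mul] at h
  exact mul_inv_eq_iff_eq_mul.1 h

theorem exists_P_lift {u : V8} (hu : InU u) (huW : InW u)
    (hsie : ∀ v, sie u v = tv (mk8 1) u v) :
    ∃ w, w ∈ P ∧ w * z = z * w ∧ F.ups w = u ∧ w * w = 1 ∧ IsLift F.data (mk8 1) u w := by
  obtain ⟨w, hw, hwz, hwu⟩ := F.exists_ups hu
  refine ⟨w, hw, hwz, hwu, ?_, mem_theA_of_W F hw hwz (hwu ▸ huW), fun v => ?_⟩
  · rw [F.W_sq hw hwz, hwu, inW_q u huW, Frame.ee_false]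
  · rw [F.act_W hw hwz, hwu, hsie]

theorem exists_lift_of {a c x y : V8} (hl : Indep [a, c, x, y])
    (hW : ∀ v ∈ [a, c, x, y], InW v) : ∃ m, IsLift F.data a c m ∧ m * m = 1 := by
  obtain ⟨hsie, -, -, -, -, -, h4, -⟩ := sie_tv
  obtain ⟨w, -, -, -, hw2, hwl⟩ := exists_P_lift F h4 inW_zero.2.2.1 hsie
  obtain ⟨g, hg, e1, e2, -, -⟩ := exists_basis_map F.data hl hW
  refine ⟨g * w * g⁻¹, by have := lift_map F hwl hg; rwa [e1, e2] at this, ?_⟩
  rw [show g * w * g⁻¹ * (g * w * g⁻¹) = g * (w * w) * g⁻¹ by group, hw2]; group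

theorem commT_share : CommT F.data (mk8 1) (mk8 4) (mk8 1) (mk8 16) := by
  obtain ⟨hsie, -, -, -, -, -, h4, -⟩ := sie_tv
  obtain ⟨-, -, hsie16, -⟩ := basis_facts
  obtain ⟨w, hw, hwz, hwu, -, hwl⟩ := exists_P_lift F h4 inW_zero.2.2.1 hsie
  obtain ⟨v, hv, hvz, hvu, -, hvl⟩ := exists_P_lift F (u := mk8 16) (by decide) inW_zero.2.2.2.1 hsie16
  refine commT_of_one F hwl hvl (mul_inv_eq_iff_eq_mul.1 ?_)
  rw [F.conj_WW hv hvz hw hwz, hwu, hvu, inW_orth _ inW_zero.2.2.1 _ inW_zero.2.2.2.1,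
    Frame.ee_false, one_mul]

theorem commT_skew (hgood : Good F) : CommT F.data (mk8 1) (mk8 64) (mk8 4) (mk8 16) := by
  obtain ⟨hB, hsie64, -, -⟩ := basis_facts
  obtain ⟨w, hw, hwz, hwu, -, hwl⟩ := exists_P_lift F (u := mk8 64) (by decide) inW_zero.2.2.2.2 hsie64
  obtain ⟨n, hn, -⟩ := exists_lift_of F (a := mk8 4) (c := mk8 16) (x := mk8 1) (y := mk8 64)
    (by decide +kernel) (by decide +kernel)
  have hnz := theA_comm_z _ hn.1
  have hns := theA_comm_s F hn.1
  have hpsi := hgood n hnz hns hn.2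
  obtain ⟨x, hx, hxs, hxπ⟩ := F.exists_mem (mk8 64) (by decide)
  have hxA : cls π x = mk8 64 := by rw [cls, hxπ]; decide
  obtain ⟨j, k, i, l, e1, e2, e3⟩ := psi_exp F hpsi hx hxs hxA hw hwz hwu
  have hfix : n * x * n⁻¹ = ee z s false false * x := by
    rw [← (mem_theA F.data).1 hn.1 x hx (by rw [hxπ]; exact inW_zero.2.2.2.2), mul_inv_cancel_right,
      Frame.ee_false, one_mul]
  obtain ⟨rfl, rfl⟩ := F.ee_mul_inj (e1.symm.trans hfix)
  have hi : i = false := by simpa using e3.symm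
  subst hi
  obtain ⟨g, hg, g1, g4, g16, g64⟩ := exists_basis_map F.data (a := mk8 64) (b := mk8 4)
    (c := mk8 16) (d := mk8 1) (by decide +kernel) (by decide +kernel)
  -- the exponent of `s` vanishes
  suffices hl : l = false by
    rw [hl, Frame.ee_false, one_mul] at e2
    exact commT_of_one F hwl hn (mul_inv_eq_iff_eq_mul.1 e2).symm
  have hw' := lift_map F hwl hg
  have hn' := lift_map F hn hg
  rw [g1, g64] at hw'
  rw [g4, g16] at hn'
  have hw'' : IsLift F.data (mk8 1) (mk8 64) (g * w * g⁻¹) := ⟨hw'.1, fun v => by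
    rw [hw'.2, tv_comm (mk8 64) (by simp [eW]) (mk8 1) (by simp [eW])]⟩
  have d1 := lift_diff F hwl hw''
  have d2 := lift_diff F hn hn'
  obtain ⟨e, hedef⟩ : ∃ e, e = ee z s false l := ⟨_, rfl⟩
  rw [← hedef] at e2
  have hcomm : (g * n * g⁻¹) * (g * w * g⁻¹) * (g * n * g⁻¹)⁻¹ = e * (g * w * g⁻¹) := by
    rw [← mul_inv_cancel_left n (g * n * g⁻¹), ← mul_inv_cancel_left w (g * w * g⁻¹)]
    generalize n⁻¹ * (g * n * g⁻¹) = t at d2
    generalize w⁻¹ * (g * w * g⁻¹) = t' at d1
    have f1 : t * w * t⁻¹ = w := mul_inv_eq_iff_eq_mul.2 (wTil_comm F d2 hwl.1)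
    have f2 : t * t' * t⁻¹ = t' := mul_inv_eq_iff_eq_mul.2 (wTil_comm F d2 (wTil_le _ d1))
    have f3 : n * t' * n⁻¹ = t' := mul_inv_eq_iff_eq_mul.2 (wTil_comm F d1 hn.1).symm
    calc n * t * (w * t') * (n * t)⁻¹ = n * ((t * w * t⁻¹) * (t * t' * t⁻¹)) * n⁻¹ := by group
      _ = (n * w * n⁻¹) * (n * t' * n⁻¹) := by rw [f1, f2]; group
      _ = e * (w * t') := by rw [e2, f3, mul_assoc]
  have hconj : (g * n * g⁻¹) * (g * w * g⁻¹) * (g * n * g⁻¹)⁻¹ = (g * e * g⁻¹) * (g * w * g⁻¹) := by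
    calc _ = g * (n * w * n⁻¹) * g⁻¹ := by group
      _ = _ := by rw [e2]; group
  have hge : g * e * g⁻¹ = e := mul_right_cancel (hconj.symm.trans hcomm)
  cases l
  · rfl
  · exfalso
    have he : e = s := by rw [hedef]; simp [ee]
    rw [he] at hge
    have := congrArg π hge
    rw [← F.data.act_π hg.1 F.pair.mem, F.π_s] at this
    rw [show s0 = mk8 1 from rfl, g1] at this
    exact absurd this (by decide)

/-- Lifts of the maps of two pairs of basis vectors commute. -/
theorem commT_basis (hgood : Good F) : ∀ i j k l : Fin 4, i ≠ j → i ≠ k → i ≠ l → j ≠ k → j ≠ l →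
    k ≠ l →
    CommT F.data (eW.get ⟨i, i.isLt⟩) (eW.get ⟨j, j.isLt⟩) (eW.get ⟨i, i.isLt⟩) (eW.get ⟨k, k.isLt⟩) ∧
    CommT F.data (eW.get ⟨i, i.isLt⟩) (eW.get ⟨l, l.isLt⟩) (eW.get ⟨j, j.isLt⟩) (eW.get ⟨k, k.isLt⟩) := by
  intro i j k l h1 h2 h3 h4 h5 h6
  obtain ⟨g, hg, e1, e2, e3, e4⟩ := exists_basis_map F.data
    (basis_facts.1 i j k l h1 h2 h3 h4 h5 h6) (by
      intro v hv
      simp only [List.mem_cons, List.not_mem_nil, or_false] at hv
      rcases hv with rfl | rfl | rfl | rfl <;> exact (eW_mem _ (List.get_mem _ _)).1)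
  have a1 := commT_map F (commT_share F) hg
  have a2 := commT_map F (commT_skew F hgood) hg
  rw [e1, e2, e3] at a1
  rw [e1, e4, e2, e3] at a2
  exact ⟨a1, a2⟩

/-- Six involutions with the unit codes, together with the preimage of the subspace, generate. -/
theorem exists_gens (hgood : Good F) : ∃ S : Set G, theA F.data ≤ Subgroup.closure S ∧
    S ⊆ theA F.data ∧ (∀ x ∈ S, ∀ y ∈ S, x * y = y * x) ∧ (∀ x ∈ S, x * x = 1) ∧
    ∀ k < 64, ∃ a ∈ theA F.data, acode F.data a = k := by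
  have hW : ∀ v ∈ [mk8 1, mk8 4, mk8 16, mk8 64], InW v := fun v hv => (eW_mem v hv).1
  obtain ⟨m01, h01, q01⟩ := exists_lift_of F (a := mk8 1) (c := mk8 4) (x := mk8 16) (y := mk8 64)
    (by decide +kernel) (by decide +kernel)
  obtain ⟨m02, h02, q02⟩ := exists_lift_of F (a := mk8 1) (c := mk8 16) (x := mk8 4) (y := mk8 64)
    (by decide +kernel) (by decide +kernel)
  obtain ⟨m03, h03, q03⟩ := exists_lift_of F (a := mk8 1) (c := mk8 64) (x := mk8 4) (y := mk8 16)
    (by decide +kernel) (by decide +kernel)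
  obtain ⟨m12, h12, q12⟩ := exists_lift_of F (a := mk8 4) (c := mk8 16) (x := mk8 1) (y := mk8 64)
    (by decide +kernel) (by decide +kernel)
  obtain ⟨m13, h13, q13⟩ := exists_lift_of F (a := mk8 4) (c := mk8 64) (x := mk8 1) (y := mk8 16)
    (by decide +kernel) (by decide +kernel)
  obtain ⟨m23, h23, q23⟩ := exists_lift_of F (a := mk8 16) (c := mk8 64) (x := mk8 1) (y := mk8 4)
    (by decide +kernel) (by decide +kernel)
  obtain ⟨c01, c02, c03, c12, c13, c23⟩ := code_basis
  have hcode : ∀ {a c : V8} {m : G}, IsLift F.data a c m → acode F.data m = code (tv a c) :=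
    fun h => by rw [acode, funext h.2]
  have sw : ∀ {a c : V8} {m : G}, a ∈ eW → c ∈ eW → IsLift F.data a c m → IsLift F.data c a m :=
    fun ha hc h => ⟨h.1, fun v => by rw [h.2, tv_comm _ ha _ hc]⟩
  have B := commT_basis F hgood
  have w1 : mk8 1 ∈ eW := by simp [eW]
  have w4 : mk8 4 ∈ eW := by simp [eW]
  have w16 : mk8 16 ∈ eW := by simp [eW]
  have w64 : mk8 64 ∈ eW := by simp [eW]
  have i01 := sw w1 w4 h01
  have i02 := sw w1 w16 h02
  have i03 := sw w1 w64 h03
  have i12 := sw w4 w16 h12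
  have i13 := sw w4 w64 h13
  have i23 := sw w16 w64 h23
  have p1 : m01 * m02 = m02 * m01 :=
    (B 0 1 2 3 (by decide) (by decide) (by decide) (by decide) (by decide) (by decide)).1 _ _ h01 h02
  have p2 : m01 * m03 = m03 * m01 :=
    (B 0 1 3 2 (by decide) (by decide) (by decide) (by decide) (by decide) (by decide)).1 _ _ h01 h03
  have p3 : m01 * m12 = m12 * m01 :=
    (B 1 0 2 3 (by decide) (by decide) (by decide) (by decide) (by decide) (by decide)).1 _ _ i01 h12
  have p4 : m01 * m13 = m13 * m01 :=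
    (B 1 0 3 2 (by decide) (by decide) (by decide) (by decide) (by decide) (by decide)).1 _ _ i01 h13
  have p5 : m02 * m03 = m03 * m02 :=
    (B 0 2 3 1 (by decide) (by decide) (by decide) (by decide) (by decide) (by decide)).1 _ _ h02 h03
  have p6 : m02 * m12 = m12 * m02 :=
    (B 2 0 1 3 (by decide) (by decide) (by decide) (by decide) (by decide) (by decide)).1 _ _ i02 i12
  have p7 : m02 * m23 = m23 * m02 :=
    (B 2 0 3 1 (by decide) (by decide) (by decide) (by decide) (by decide) (by decide)).1 _ _ i02 h23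
  have p8 : m03 * m13 = m13 * m03 :=
    (B 3 0 1 2 (by decide) (by decide) (by decide) (by decide) (by decide) (by decide)).1 _ _ i03 i13
  have p9 : m03 * m23 = m23 * m03 :=
    (B 3 0 2 1 (by decide) (by decide) (by decide) (by decide) (by decide) (by decide)).1 _ _ i03 i23
  have p10 : m12 * m13 = m13 * m12 :=
    (B 1 2 3 0 (by decide) (by decide) (by decide) (by decide) (by decide) (by decide)).1 _ _ h12 h13
  have p11 : m12 * m23 = m23 * m12 :=
    (B 2 1 3 0 (by decide) (by decide) (by decide) (by decide) (by decide) (by decide)).1 _ _ i12 h23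
  have p12 : m13 * m23 = m23 * m13 :=
    (B 3 1 2 0 (by decide) (by decide) (by decide) (by decide) (by decide) (by decide)).1 _ _ i13 i23
  have p13 : m03 * m12 = m12 * m03 :=
    (B 0 1 2 3 (by decide) (by decide) (by decide) (by decide) (by decide) (by decide)).2 _ _ h03 h12
  have p14 : m01 * m23 = m23 * m01 :=
    (B 0 2 3 1 (by decide) (by decide) (by decide) (by decide) (by decide) (by decide)).2 _ _ h01 h23
  have p15 : m02 * m13 = m13 * m02 :=
    (B 0 1 3 2 (by decide) (by decide) (by decide) (by decide) (by decide) (by decide)).2 _ _ h02 h13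
  let pick : Bool → G → G := fun b x => if b then x else 1
  let M : Set G := {m01, m02, m03, m12, m13, m23}
  have hM : M ⊆ theA F.data := by
    rintro x (rfl | rfl | rfl | rfl | rfl | rfl)
    exacts [h01.1, h02.1, h03.1, h12.1, h13.1, h23.1]
  have hpickA : ∀ b x, x ∈ M → pick b x ∈ theA F.data ∧ pick b x ∈ Subgroup.closure M := fun b x hx => by
    cases b
    · exact ⟨one_mem _, one_mem _⟩
    · exact ⟨hM hx, Subgroup.subset_closure hx⟩
  have hpick : ∀ b x k, x ∈ theA F.data → acode F.data x = k →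
      acode F.data (pick b x) = if b then k else 0 := fun b x k hx hk => by
    cases b
    · exact (mem_wTil_iff F.data (one_mem _)).1 (one_mem _)
    · exact hk
  have hsurj : ∀ k < 64, ∃ a ∈ theA F.data, a ∈ Subgroup.closure M ∧ acode F.data a = k := by
    intro k hk
    obtain ⟨x1, x2, x3, x4, x5, x6, hx⟩ := pack_surj k hk
    obtain ⟨a1, b1⟩ := hpickA x1 m01 (by simp [M])
    obtain ⟨a2, b2⟩ := hpickA x2 m02 (by simp [M])
    obtain ⟨a3, b3⟩ := hpickA x3 m03 (by simp [M])
    obtain ⟨a4, b4⟩ := hpickA x4 m12 (by simp [M])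
    obtain ⟨a5, b5⟩ := hpickA x5 m13 (by simp [M])
    obtain ⟨a6, b6⟩ := hpickA x6 m23 (by simp [M])
    refine ⟨pick x1 m01 * pick x2 m02 * pick x3 m03 * pick x4 m12 * pick x5 m13 * pick x6 m23,
      mul_mem (mul_mem (mul_mem (mul_mem (mul_mem a1 a2) a3) a4) a5) a6,
      mul_mem (mul_mem (mul_mem (mul_mem (mul_mem b1 b2) b3) b4) b5) b6, ?_⟩
    rw [acode_mul _ (mul_mem (mul_mem (mul_mem (mul_mem a1 a2) a3) a4) a5) a6,
      acode_mul _ (mul_mem (mul_mem (mul_mem a1 a2) a3) a4) a5,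
      acode_mul _ (mul_mem (mul_mem a1 a2) a3) a4, acode_mul _ (mul_mem a1 a2) a3,
      acode_mul _ a1 a2, hpick x1 _ _ h01.1 ((hcode h01).trans c01),
      hpick x2 _ _ h02.1 ((hcode h02).trans c02), hpick x3 _ _ h03.1 ((hcode h03).trans c03),
      hpick x4 _ _ h12.1 ((hcode h12).trans c12), hpick x5 _ _ h13.1 ((hcode h13).trans c13),
      hpick x6 _ _ h23.1 ((hcode h23).trans c23), ← hx]
    rfl
  refine ⟨(wTil F.data : Set G) ∪ M, fun a ha => ?_, Set.union_subset (wTil_le _) hM, ?_, ?_,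
    fun k hk => (hsurj k hk).imp fun a h => ⟨h.1, h.2.2⟩⟩
  · obtain ⟨b, hb, hbM, hbk⟩ := hsurj (acode F.data a) (code_lt _)
    have hd := inv_mul_mem_wTil F.data hb ha hbk
    rw [← mul_inv_cancel_left b a]
    exact mul_mem (Subgroup.closure_mono Set.subset_union_right hbM)
      (Subgroup.subset_closure (Or.inl hd))
  · intro x hx y hy
    rcases hx with hx | hx
    · exact wTil_comm F hx (Set.union_subset (wTil_le _) hM hy)
    rcases hy with hy | hy
    · exact (wTil_comm F hy (hM hx)).symm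
    rcases hx with rfl | rfl | rfl | rfl | rfl | rfl <;>
      rcases hy with rfl | rfl | rfl | rfl | rfl | rfl <;>
      first
        | rfl
        | assumption
        | exact Eq.symm ‹_›
  · rintro x (hx | hx)
    · exact wTil_sq _ hx
    · rcases hx with rfl | rfl | rfl | rfl | rfl | rfl <;> assumption

theorem theA_comm (hgood : Good F) {a b : G} (ha : a ∈ theA F.data) (hb : b ∈ theA F.data) :
    a * b = b * a := by
  obtain ⟨S, hle, -, hc, -, -⟩ := exists_gens F hgood
  have h1 : Subgroup.closure S ≤ Subgroup.centralizer S :=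
    (Subgroup.closure_le _).2 fun x hx => Subgroup.mem_centralizer_iff.2 fun y hy => hc y hy x hx
  have h2 : S ⊆ Subgroup.centralizer (theA F.data : Set G) := fun x hx =>
    Subgroup.mem_centralizer_iff.2 fun y hy =>
      ((Subgroup.mem_centralizer_iff.1 (h1 (hle hy)) x hx)).symm
  exact Subgroup.mem_centralizer_iff.1 ((Subgroup.closure_le _).2 h2 (hle hb)) a ha

theorem theA_sq (hgood : Good F) {a : G} (ha : a ∈ theA F.data) : a * a = 1 := by
  obtain ⟨S, hle, hS, -, hsq, -⟩ := exists_gens F hgood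
  let K : Subgroup G :=
    { carrier := {x | x ∈ theA F.data ∧ x * x = 1}
      one_mem' := ⟨one_mem _, one_mul _⟩
      mul_mem' := fun {x y} hx hy => ⟨mul_mem hx.1 hy.1, by
        rw [show x * y * (x * y) = x * (y * x) * y by group, theA_comm F hgood hy.1 hx.1,
          show x * (x * y) * y = x * x * (y * y) by group, hx.2, hy.2, one_mul]⟩
      inv_mem' := fun {x} hx => ⟨inv_mem hx.1, by rw [← mul_inv_rev, hx.2, inv_one]⟩ }
  exact ((Subgroup.closure_le K).2 (fun x hx => ⟨hS hx, hsq x hx⟩) (hle ha)).2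

theorem theA_elem (hgood : Good F) : Cfsg.IsElementaryAbelian 2 (theA F.data) := by
  refine ⟨⟨⟨fun x y => Subtype.ext (theA_comm F hgood x.2 y.2)⟩⟩, fun x hx => ?_⟩
  rw [pow_two]; exact theA_sq F hgood hx

theorem card_theA (hgood : Good F) : Nat.card (theA F.data) = 2 ^ 11 := by
  obtain ⟨S, -, -, -, -, hsurj⟩ := exists_gens F hgood
  choose r hrA hrc using fun k : Fin 64 => hsurj k.1 k.2
  let f : wTil F.data × Fin 64 → theA F.data := fun p =>
    ⟨r p.2 * p.1.1, mul_mem (hrA _) (wTil_le _ p.1.2)⟩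
  have hcf : ∀ p, acode F.data ((f p : theA F.data) : G) = p.2.1 := fun p => by
    show acode F.data (r p.2 * p.1.1) = _
    rw [acode_mul _ (hrA _) (wTil_le _ p.1.2), hrc, (mem_wTil_iff _ (wTil_le _ p.1.2)).1 p.1.2,
      Nat.xor_zero]
  have hf : Function.Bijective f := by
    refine ⟨fun ⟨x, k⟩ ⟨x', k'⟩ h => ?_, fun ⟨a, ha⟩ => ?_⟩
    · have hk : k = k' := Fin.ext (by
        have := congrArg (fun t : theA F.data => acode F.data (t : G)) h
        simpa only [hcf] using this)
      subst hk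
      have h' : r k * (x : G) = r k * (x' : G) := congrArg (fun t : theA F.data => (t : G)) h
      rw [Subtype.ext (mul_left_cancel h')]
    · refine ⟨(⟨_, inv_mul_mem_wTil F.data (hrA ⟨_, code_lt (F.data.act a)⟩) ha (hrc _)⟩,
        ⟨_, code_lt (F.data.act a)⟩), Subtype.ext (mul_inv_cancel_left _ a)⟩
  rw [← Nat.card_congr (Equiv.ofBijective f hf), Nat.card_prod, card_wTil, Nat.card_eq_fintype_card,
    Fintype.card_fin]
  norm_num

end CfsgLib.ConwayGolay
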