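import Cfsg.Agent.ConwayType.NotCentral

/-!
# A maximal totally singular subspace and the stabiliser of an opposite one
-/

set_option autoImplicit false

namespace CfsgLib.ConwayGolay

open CfsgLib.ConwayType

/-- The standard maximal totally singular subspace, spanned by the even bits. -/
abbrev InW (v : V8) : Prop := v.bits &&& 170 = 0

/-- The opposite subspace, spanned by the odd bits. -/
abbrev InF (v : V8) : Prop := v.bits &&& 85 = 0

/-- The Siegel map of two vectors. -/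
def tv (a c v : V8) : V8 := v + sm (b8 v a) c + sm (b8 v c) a

/-- Independence of four vectors. -/
abbrev Indep (l : List V8) : Prop :=
  l.length = 4 ∧ ∀ k ∈ List.range 16, k ≠ 0 → bitsum l k ≠ 0

theorem inW_add : ∀ u v : V8, InW u → InW v → InW (u + v) := by
  intro u v hu hv
  show (u + v).bits &&& 170 = 0
  rw [bits_add, Nat.and_xor_distrib_right, hu, hv]; rfl

theorem inF_add : ∀ u v : V8, InF u → InF v → InF (u + v) := by
  intro u v hu hv
  show (u + v).bits &&& 85 = 0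
  rw [bits_add, Nat.and_xor_distrib_right, hu, hv]; rfl

/-- The bases of the two subspaces. -/
def eW : List V8 := [1, 4, 16, 64].map mk8

/-- The dual basis. -/
def eF : List V8 := [2, 8, 32, 128].map mk8

theorem inW_cases : ∀ v : V8, InW v → ∃ k ∈ List.range 16, bitsum eW k = v := by decide +kernel

theorem inF_cases : ∀ v : V8, InF v → ∃ k ∈ List.range 16, bitsum eF k = v := by decide +kernel

theorem eW_mem : ∀ v ∈ eW, InW v ∧ q8 v = false ∧ b8 v s0 = false := by decide +kernel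

theorem eF_mem : ∀ v ∈ eF, InF v ∧ q8 v = false := by decide +kernel

theorem inW_of_orth : ∀ v : V8, (∀ e ∈ eW, b8 v e = false) → InW v := by decide +kernel

theorem inF_of_orth : ∀ v : V8, (∀ e ∈ eF, b8 v e = false) → InF v := by decide +kernel

theorem zero_of_orth_eF : ∀ v : V8, InW v → (∀ e ∈ eF, b8 v e = false) → v = 0 := by decide +kernel

theorem zero_of_orth_eW : ∀ v : V8, InF v → (∀ e ∈ eW, b8 v e = false) → v = 0 := by decide +kernel

theorem inW_and_inF : ∀ v : V8, InW v → InF v → v = 0 := by decide +kernel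

theorem wList_card : (Finset.univ.filter fun v : V8 => InW v).card = 16 := by decide +kernel

theorem fList_card : (Finset.univ.filter fun v : V8 => InF v).card = 16 := by decide +kernel

/-! ### Generators of the common stabiliser -/

/-- Words fixing the first 0 vectors of the basis. -/
def wGens0 : List (List (ℕ × ℕ)) := [[(48, 50), (52, 54)], [(12, 14), (28, 30)], [(12, 14), (76, 78)], [(48, 49), (56, 57)], [(12, 13), (44, 45)], [(12, 13), (140, 141)]]

/-- Their orbit of the next vector. -/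
def wOrb0 : List V8 := ([84, 80, 68, 20, 85, 64, 16, 81, 4, 69, 21, 65, 17, 5, 1] : List ℕ).map mk8

theorem wGens0_ok : ∀ w ∈ wGens0, (∀ p ∈ w, okPair p = true) ∧
    (∀ v : V8, InW v → InW (pw w v)) ∧ (∀ v : V8, InF v → InF (pw w v)) := by decide +kernel

theorem wOrb0_facts : chainOK (wGens0.map pw) (mk8 1) wOrb0 = true ∧
    ∀ v : V8, InW v → v ≠ 0 → v ∈ wOrb0 := by decide +kernel

/-- Words fixing the first 1 vectors of the basis. -/
def wGens1 : List (List (ℕ × ℕ)) := [[(48, 49), (56, 57)], [(3, 11), (19, 27)], [(3, 11), (67, 75)], [(3, 7), (35, 39)], [(3, 7), (131, 135)]]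

/-- Their orbit of the next vector. -/
def wOrb1 : List V8 := ([81, 80, 65, 17, 85, 64, 16, 84, 69, 21, 68, 20, 5, 4] : List ℕ).map mk8

theorem wGens1_ok : ∀ w ∈ wGens1, (∀ p ∈ w, okPair p = true) ∧
    (∀ v : V8, InW v → InW (pw w v)) ∧ (∀ v : V8, InF v → InF (pw w v)) ∧ pw w (mk8 1) = mk8 1 := by decide +kernel

theorem wOrb1_facts : chainOK (wGens1.map pw) (mk8 4) wOrb1 = true ∧
    ∀ v : V8, InW v → v.bits &&& 84 ≠ 0 → v ∈ wOrb1 := by decide +kernel

/-- Words fixing the first 2 vectors of the basis. -/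
def wGens2 : List (List (ℕ × ℕ)) := [[(12, 13), (44, 45)], [(3, 7), (35, 39)], [(3, 35), (67, 99)], [(3, 19), (131, 147)]]

/-- Their orbit of the next vector. -/
def wOrb2 : List V8 := ([69, 68, 65, 85, 64, 84, 81, 21, 80, 20, 17, 16] : List ℕ).map mk8

theorem wGens2_ok : ∀ w ∈ wGens2, (∀ p ∈ w, okPair p = true) ∧
    (∀ v : V8, InW v → InW (pw w v)) ∧ (∀ v : V8, InF v → InF (pw w v)) ∧ pw w (mk8 1) = mk8 1 ∧ pw w (mk8 4) = mk8 4 := by decide +kernel

theorem wOrb2_facts : chainOK (wGens2.map pw) (mk8 16) wOrb2 = true ∧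
    ∀ v : V8, InW v → v.bits &&& 80 ≠ 0 → v ∈ wOrb2 := by decide +kernel

/-- Words fixing the first 3 vectors of the basis. -/
def wGens3 : List (List (ℕ × ℕ)) := [[(12, 13), (140, 141)], [(3, 7), (131, 135)], [(3, 19), (131, 147)]]

/-- Their orbit of the next vector. -/
def wOrb3 : List V8 := ([85, 84, 81, 69, 80, 68, 65, 64] : List ℕ).map mk8

theorem wGens3_ok : ∀ w ∈ wGens3, (∀ p ∈ w, okPair p = true) ∧
    (∀ v : V8, InW v → InW (pw w v)) ∧ (∀ v : V8, InF v → InF (pw w v)) ∧ pw w (mk8 1) = mk8 1 ∧ pw w (mk8 4) = mk8 4 ∧ pw w (mk8 16) = mk8 16 := by decide +kernel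

theorem wOrb3_facts : chainOK (wGens3.map pw) (mk8 64) wOrb3 = true ∧
    ∀ v : V8, InW v → v.bits &&& 64 ≠ 0 → v ∈ wOrb3 := by decide +kernel

/-- Bases giving each of the 35 codes of rank two. -/
def repsTwo : List (List V8) := ([[1, 4, 16, 64], [1, 16, 4, 64], [1, 20, 4, 64], [1, 64, 4, 16], [1, 68, 4, 16], [1, 80, 4, 16], [1, 84, 4, 16], [4, 16, 1, 64], [4, 17, 1, 64], [5, 16, 1, 64], [5, 17, 1, 64], [4, 64, 1, 16], [4, 65, 1, 16], [5, 64, 1, 16], [5, 65, 1, 16], [4, 80, 1, 16], [4, 81, 1, 16], [5, 80, 1, 16], [5, 81, 1, 16], [16, 64, 1, 4], [16, 65, 1, 4], [17, 64, 1, 4], [17, 65, 1, 4], [16, 68, 1, 4], [16, 69, 1, 4], [17, 68, 1, 4], [17, 69, 1, 4], [20, 64, 1, 4], [20, 65, 1, 4], [21, 64, 1, 4], [21, 65, 1, 4], [20, 68, 1, 4], [20, 69, 1, 4], [21, 68, 1, 4], [21, 69, 1, 4]] : List (List ℕ)).map (List.map mk8)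

/-- Bases giving each of the 28 codes of rank four. -/
def repsFour : List (List V8) := ([[1, 64, 4, 16], [1, 64, 4, 17], [1, 64, 5, 16], [1, 64, 5, 17], [1, 16, 4, 64], [1, 16, 4, 65], [1, 16, 5, 64], [1, 16, 5, 65], [1, 16, 4, 80], [1, 16, 4, 81], [1, 16, 5, 80], [1, 16, 5, 81], [1, 4, 16, 64], [1, 4, 16, 65], [1, 4, 17, 64], [1, 4, 17, 65], [1, 4, 16, 68], [1, 4, 16, 69], [1, 4, 17, 68], [1, 4, 17, 69], [1, 4, 20, 64], [1, 4, 20, 65], [1, 4, 21, 64], [1, 4, 21, 65], [1, 4, 20, 68], [1, 4, 20, 69], [1, 4, 21, 68], [1, 4, 21, 69]] : List (List ℕ)).map (List.map mk8)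

/-- The code of an isometry fixing the subspace pointwise. -/
def code (f : V8 → V8) : ℕ :=
  (if b8 (f (mk8 2)) (mk8 8) then 1 else 0) ^^^ (if b8 (f (mk8 2)) (mk8 32) then 2 else 0) ^^^
  (if b8 (f (mk8 2)) (mk8 128) then 4 else 0) ^^^ (if b8 (f (mk8 8)) (mk8 32) then 8 else 0) ^^^
  (if b8 (f (mk8 8)) (mk8 128) then 16 else 0) ^^^ (if b8 (f (mk8 32)) (mk8 128) then 32 else 0)

/-- The code attached to two vectors. -/
def codeTwo : List V8 → ℕ
  | [a, c, _, _] => code (tv a c)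
  | _ => 0

/-- The code attached to four vectors. -/
def codeFour : List V8 → ℕ
  | [a, c, x, y] => code (fun v => tv a c (tv x y v))
  | _ => 0

theorem reps_indep : ∀ l ∈ repsTwo ++ repsFour, Indep l ∧ ∀ v ∈ l, InW v := by decide +kernel

/-- The code is one of those of rank two. -/
def isTwo (k : ℕ) : Bool := (repsTwo.map codeTwo).contains k

theorem reps_cover : ∀ k < 64, k ≠ 0 →
    (isTwo k = true ∧ ∃ l ∈ repsTwo, codeTwo l = k) ∨
    (isTwo k = false ∧ ∃ l ∈ repsFour, codeFour l = k) := by decide +kernel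

theorem codes_count : ((Finset.range 64).filter fun k => k ≠ 0 ∧ isTwo k = true).card = 35 ∧
    ((Finset.range 64).filter fun k => k ≠ 0 ∧ isTwo k = false).card = 28 := by decide +kernel

theorem code_basis : code (tv (mk8 1) (mk8 4)) = 1 ∧ code (tv (mk8 1) (mk8 16)) = 2 ∧
    code (tv (mk8 1) (mk8 64)) = 4 ∧ code (tv (mk8 4) (mk8 16)) = 8 ∧
    code (tv (mk8 4) (mk8 64)) = 16 ∧ code (tv (mk8 16) (mk8 64)) = 32 := by decide +kernel

theorem fix_counts :
    (Finset.univ.filter fun v : V8 => tv (mk8 1) (mk8 4) v = v).card = 64 ∧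
    (Finset.univ.filter fun v : V8 => tv (mk8 1) (mk8 4) (tv (mk8 16) (mk8 64) v) = v).card = 16 := by
  decide +kernel

end CfsgLib.ConwayGolay
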