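import Cfsg.Agent.ConwayGolay.Bits

/-!
# The six coordinates of an isometry fixing the subspace pointwise
-/

set_option autoImplicit false

namespace CfsgLib.ConwayGolay

open CfsgLib.ConwayType

/-- Six bits as a number. -/
def pack (x1 x2 x3 x4 x5 x6 : Bool) : ℕ :=
  (if x1 then 1 else 0) ^^^ (if x2 then 2 else 0) ^^^ (if x3 then 4 else 0) ^^^
  (if x4 then 8 else 0) ^^^ (if x5 then 16 else 0) ^^^ (if x6 then 32 else 0)

theorem code_eq (f : V8 → V8) : code f = pack (b8 (f (mk8 2)) (mk8 8)) (b8 (f (mk8 2)) (mk8 32))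
    (b8 (f (mk8 2)) (mk8 128)) (b8 (f (mk8 8)) (mk8 32)) (b8 (f (mk8 8)) (mk8 128))
    (b8 (f (mk8 32)) (mk8 128)) := rfl

theorem pack_lt (x1 x2 x3 x4 x5 x6 : Bool) : pack x1 x2 x3 x4 x5 x6 < 64 := by
  cases x1 <;> cases x2 <;> cases x3 <;> cases x4 <;> cases x5 <;> cases x6 <;> decide

theorem code_lt (f : V8 → V8) : code f < 64 := code_eq f ▸ pack_lt _ _ _ _ _ _

theorem pack_xor : ∀ a b c d e f a' b' c' d' e' f' : Bool,
    pack (xor a a') (xor b b') (xor c c') (xor d d') (xor e e') (xor f f') =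
      pack a b c d e f ^^^ pack a' b' c' d' e' f' := by decide +kernel

theorem pack_inj : ∀ a b c d e f a' b' c' d' e' f' : Bool,
    pack a b c d e f = pack a' b' c' d' e' f' →
      a = a' ∧ b = b' ∧ c = c' ∧ d = d' ∧ e = e' ∧ f = f' := by decide +kernel

theorem pack_surj : ∀ k < 64, ∃ a b c d e f : Bool, pack a b c d e f = k := by decide +kernel

theorem forall_bitsum {p : V8 → Prop} (h0 : p 0) (hadd : ∀ u v, p u → p v → p (u + v)) :
    ∀ (l : List V8), (∀ x ∈ l, p x) → ∀ n, p (bitsum l n)
  | [], _, _ => h0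
  | x :: l, h, n => by
    simp only [bitsum]
    refine hadd _ _ ?_ (forall_bitsum h0 hadd l (fun y hy => h y (List.mem_cons_of_mem x hy)) _)
    split
    · exact h x List.mem_cons_self
    · exact h0

theorem inW_orth : ∀ u : V8, InW u → ∀ v : V8, InW v → b8 u v = false := by decide +kernel

theorem inW_q : ∀ v : V8, InW v → q8 v = false := by decide +kernel

theorem inW_zero : InW 0 ∧ InW s0 ∧ InW (mk8 4) ∧ InW (mk8 16) ∧ InW (mk8 64) := by decide

theorem inW_pU : ∀ v : V8, InW v → InW (pU v) ∧ b8 v s0 = false := by decide +kernel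

theorem tv_comm : ∀ a ∈ eW, ∀ c ∈ eW, ∀ v : V8, tv a c v = tv c a v := by decide +kernel

theorem tv_fixW : ∀ a c : V8, InW a → InW c → ∀ v, InW v → tv a c v = v := by
  intro a c ha hc v hv
  simp [tv, inW_orth v hv a ha, inW_orth v hv c hc, sm]

variable {f g : V8 → V8}

theorem move_inW (hf : IsIso8 f) (hW : ∀ v, InW v → f v = v) (v : V8) : InW (f v + v) := by
  refine inW_of_orth _ fun e he => ?_
  have h := hf.polar v e
  rw [hW e (eW_mem e he).1] at h
  rw [b8_add_left, h, Bool.xor_self]

theorem bit_mul (hf : IsIso8 f) (hg : IsIso8 g) (hfW : ∀ v, InW v → f v = v)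
    (hgW : ∀ v, InW v → g v = v) {d e : V8} (hde : b8 d e = false) :
    b8 (f (g d)) e = xor (b8 (f d) e) (b8 (g d) e) := by
  have hw := move_inW hg hgW d
  have h1 : g d = d + (g d + d) := by rw [add_comm, add_add_cancel8]
  conv_lhs => rw [h1, hf.add, hfW _ hw, b8_add_left, b8_add_left, hde, Bool.xor_false]

theorem code_mul (hf : IsIso8 f) (hg : IsIso8 g) (hfW : ∀ v, InW v → f v = v)
    (hgW : ∀ v, InW v → g v = v) {h : V8 → V8} (hh : ∀ v, h v = f (g v)) :
    code h = code f ^^^ code g := by
  simp only [code_eq, hh]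
  rw [bit_mul hf hg hfW hgW (d := mk8 2) (e := mk8 8) (by decide),
    bit_mul hf hg hfW hgW (d := mk8 2) (e := mk8 32) (by decide),
    bit_mul hf hg hfW hgW (d := mk8 2) (e := mk8 128) (by decide),
    bit_mul hf hg hfW hgW (d := mk8 8) (e := mk8 32) (by decide),
    bit_mul hf hg hfW hgW (d := mk8 8) (e := mk8 128) (by decide),
    bit_mul hf hg hfW hgW (d := mk8 32) (e := mk8 128) (by decide), pack_xor]

theorem eF_facts : ∀ d ∈ eF, ∀ e ∈ eF, b8 d e = false := by decide +kernel

theorem bit_symm (hf : IsIso8 f) (hfW : ∀ v, InW v → f v = v) {d e : V8} (hd : d ∈ eF) (he : e ∈ eF) :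
    b8 (f d) e = b8 (f e) d := by
  have hw := move_inW hf hfW e
  have h := hf.polar d e
  rw [eF_facts d hd e he, show f e = e + (f e + e) by rw [add_comm, add_add_cancel8], b8_add_right] at h
  conv at h => lhs; arg 2; rw [← hfW _ hw, hf.polar, b8_add_right, eF_facts d hd e he, Bool.xor_false]
  rw [b8_comm d] at h
  cases h1 : b8 (f d) e <;> cases h2 : b8 (f e) d <;> simp_all

theorem bit_self (hf : IsIso8 f) {d : V8} (hd : d ∈ eF) (hfW : ∀ v, InW v → f v = v) :
    b8 (f d) d = false := by
  have h := inW_q _ (move_inW hf hfW d)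
  rw [q8_add, hf.quad, (eF_mem d hd).2] at h
  simpa using h

theorem code_inj (hf : IsIso8 f) (hg : IsIso8 g) (hfW : ∀ v, InW v → f v = v)
    (hgW : ∀ v, InW v → g v = v) (h : code f = code g) (v : V8) : f v = g v := by
  rw [code_eq, code_eq] at h
  obtain ⟨h1, h2, h3, h4, h5, h6⟩ := pack_inj _ _ _ _ _ _ _ _ _ _ _ _ h
  have hF : ∀ d ∈ eF, f d = g d := by
    intro d hd
    refine eq_of_add_eq_zero8 (zero_of_orth_eF _ ?_ fun e he => ?_)
    · have hA := inW_add _ _ (move_inW hf hfW d) (move_inW hg hgW d)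
      have : f d + d + (g d + d) = f d + g d := by
        rw [show f d + d + (g d + d) = f d + g d + (d + d) by abel, add_self8, add_zero]
      rwa [this] at hA
    · rw [b8_add_left]
      suffices hde : b8 (f d) e = b8 (g d) e by rw [hde, Bool.xor_self]
      have hs := bit_symm hf hfW hd he
      have hs' := bit_symm hg hgW hd he
      have h0 := fun (e0 : d = e) => (bit_self hf hd hfW).trans (bit_self hg hd hgW).symm
      simp only [eF, List.map_cons, List.map_nil, List.mem_cons, List.not_mem_nil, or_false] at hd he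
      rcases hd with rfl | rfl | rfl | rfl <;> rcases he with rfl | rfl | rfl | rfl <;>
        first
          | exact h0 rfl
          | assumption
          | (rw [hs, hs']; assumption)
  refine hf.ext_basis hg (List.map_congr_left fun x hx => ?_) v
  simp only [basis8, List.map_cons, List.map_nil, List.mem_cons, List.not_mem_nil, or_false] at hx
  rcases hx with rfl | rfl | rfl | rfl | rfl | rfl | rfl | rfl
  · rw [hfW _ (by decide), hgW _ (by decide)]
  · exact hF _ (by simp [eF])
  · rw [hfW _ (by decide), hgW _ (by decide)]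
  · exact hF _ (by simp [eF])
  · rw [hfW _ (by decide), hgW _ (by decide)]
  · exact hF _ (by simp [eF])
  · rw [hfW _ (by decide), hgW _ (by decide)]
  · exact hF _ (by simp [eF])

theorem code_one : code (fun v => v) = 0 := by decide +kernel

end CfsgLib.ConwayGolay
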