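import Cfsg.Agent.ConwayGolay.Psi

/-!
# One of the two families of maximal totally singular subspaces is the good one
-/

set_option autoImplicit false

namespace CfsgLib.ConwayGolay

open CfsgLib.ConwayType CfsgLib.LargeExtraspecial

theorem swap_words : (∀ p ∈ [((192 : ℕ), (196 : ℕ))], okPair p = true ∧ pr p s0 = s0) ∧
    (∀ p ∈ [((48 : ℕ), (52 : ℕ)), (192, 208)], okPair p = true ∧ pr p s0 = s0) ∧
    InU (mk8 76) ∧ InU (mk8 140) ∧ b8 (mk8 76) (mk8 140) = true ∧
    mk8 76 + mk8 140 = mk8 192 ∧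
    pU (pw [(192, 196)] (mk8 76)) = mk8 140 ∧ pU (pw [(192, 196)] (mk8 140)) = mk8 76 ∧
    (∀ u : V8, InU u → pU (pw [(192, 196)] (pU (pw [(192, 196)] u))) = u) ∧
    pU (pw [(48, 52), (192, 208)] (mk8 192)) = mk8 192 ∧
    ∀ u : V8, InU u → pU (tv (mk8 4) (mk8 16) u) =
      pU (pw [(192, 196)] (pw [(48, 52), (192, 208)] (pw [(48, 52), (192, 208)] u))) := by
  decide +kernel

theorem sie_tv : (∀ v : V8, sie (mk8 4) v = tv (mk8 1) (mk8 4) v) ∧
    tv (mk8 4) (mk8 16) s0 = s0 ∧ pU (tv (mk8 4) (mk8 16) (mk8 64)) = mk8 64 ∧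
    pU (tv (mk8 4) (mk8 16) (mk8 128)) = mk8 128 ∧ InU (mk8 64) ∧ InU (mk8 128) ∧
    InU (mk8 4) ∧ mk8 64 + mk8 128 = mk8 192 := by decide +kernel

theorem tv_iso {f : V8 → V8} (hf : IsIso8 f) (a c v : V8) : f (tv a c v) = tv (f a) (f c) (f v) := by
  simp only [tv, hf.add, hf.map_sm, hf.polar]

section

variable {G : Type*} [Group G] {z : G} {Q : Subgroup G} {π : G → V8}

/-- The exchange of the two families, fixing `s0`. -/
def tau (v : V8) : V8 := rf (mk8 192) v

theorem tau_facts : tau s0 = s0 ∧ tau d0 = d0 ∧ (∀ v, tau (tau v) = v) ∧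
    (∀ v, q8 (tau v) = q8 v) ∧ tau (mk8 128) = mk8 64 ∧ tau (mk8 4) = mk8 4 ∧
    tau (mk8 16) = mk8 16 ∧ ∀ v, pU (tau v) = tau (pU v) := by decide +kernel

theorem tau_add (u v : V8) : tau (u + v) = tau u + tau v := by
  simp only [tau, rf, b8_add_left]
  cases b8 u (mk8 192) <;> cases b8 v (mk8 192) <;> simp
  · abel
  · abel
  · rw [show u + mk8 192 + (v + mk8 192) = u + v + (mk8 192 + mk8 192) by abel, add_self8, add_zero]

theorem tau_iso : IsIso8 tau := ⟨tau_add, tau_facts.2.2.2.1⟩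

theorem rf_map {f : V8 → V8} (hf : IsIso8 f) (a v : V8) : f (rf a v) = rf (f a) (f v) := by
  simp only [rf, hf.polar]
  split <;> simp [hf.add]

theorem data_tau (D : Data z Q π) : Data z Q (fun x => tau (π x)) := by
  obtain ⟨-, -, hinv, hq, -⟩ := tau_facts
  refine ⟨D.sub, D.card, fun x hx y hy => ?_, fun x hx => ?_, fun v => ?_, fun x hx => ?_,
    fun p hp => ?_, fun c hc h => D.faithful c hc fun x hx => ?_, D.card_cent, D.nwc⟩
  · rw [← tau_add, D.map_mul x hx y hy]
  · rw [← D.ker x hx]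
    exact ⟨fun h => by rw [← hinv (π x), h, tau_iso.zero], fun h => by rw [h, tau_iso.zero]⟩
  · obtain ⟨x, hx, e⟩ := D.surj (tau v)
    exact ⟨x, hx, by rw [e, hinv]⟩
  · rw [hq]; exact D.sq x hx
  · obtain ⟨c, hc, hcv⟩ := D.pairs ((tau (mk8 p.1)).bits, (tau (mk8 p.2)).bits) (by
      simp only [okPair, Bool.and_eq_true] at hp ⊢
      rw [show mk8 (tau (mk8 p.1)).bits = tau (mk8 p.1) from V8.ext_bits (bits_mk8 (V8.bits_lt _)),
        show mk8 (tau (mk8 p.2)).bits = tau (mk8 p.2) from V8.ext_bits (bits_mk8 (V8.bits_lt _)),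
        hq, hq]
      exact hp)
    refine ⟨c, hc, fun x hx => ?_⟩
    rw [hcv x hx, pr, pr,
      show mk8 (tau (mk8 p.1)).bits = tau (mk8 p.1) from V8.ext_bits (bits_mk8 (V8.bits_lt _)),
      show mk8 (tau (mk8 p.2)).bits = tau (mk8 p.2) from V8.ext_bits (bits_mk8 (V8.bits_lt _)),
      rf_map tau_iso, rf_map tau_iso, hinv, hinv]
  · have := congrArg tau (h x hx)
    rwa [hinv, hinv] at this

theorem frame_tau {P : Subgroup G} {s : G} (F : Frame z Q π P s) :
    Frame z Q (fun x => tau (π x)) P s :=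
  ⟨data_tau F.data, F.pair, by rw [F.π_s]; exact tau_facts.1⟩

theorem act_tau (D : Data z Q π) {c : G} (hc : c * z = z * c) (v : V8) :
    (data_tau D).act c v = tau (D.act c (tau v)) := by
  obtain ⟨x, hx, e⟩ := D.surj (tau v)
  conv_lhs => rw [← tau_facts.2.2.1 v, ← e]
  rw [← e, D.act_π hc hx]
  exact (data_tau D).act_π hc hx

end

variable {G : Type*} [Group G] [Finite G] {z s : G} {Q P : Subgroup G} {π : G → V8}
  (F : Frame z Q π P s)
include F

omit [Finite G] in
theorem exists_fix_s {c : G} (hc : c * z = z * c) (h : F.data.act c s0 = s0) :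
    ∃ q ∈ Q, q * c * s = s * (q * c) := by
  have h1 : π s = π (c * s * c⁻¹) := by rw [← F.data.act_π hc F.pair.mem, F.π_s, h]
  rcases F.data.eq_or_eq_of_π_eq F.pair.mem (F.data.sub.conj_mem hc F.pair.mem) h1 with e | e
  · exact ⟨1, one_mem _, by rw [one_mul]; exact mul_inv_eq_iff_eq_mul.1 e⟩
  · obtain ⟨q, hq, hqs⟩ := F.data.sub.exists_not_commute F.pair.subP.ne_one F.pair.ne
    have hqz := F.data.Q_comm hq
    have hqc := F.data.sub.conj_of_not_commute hq F.pair.mem hqs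
    refine ⟨q, hq, mul_inv_eq_iff_eq_mul.1 ?_⟩
    calc q * c * s * (q * c)⁻¹ = q * (c * s * c⁻¹) * q⁻¹ := by group
      _ = (q * z * q⁻¹) * (q * s * q⁻¹) := by rw [e]; group
      _ = s := by
        rw [hqc, mul_inv_eq_iff_eq_mul.2 hqz, ← mul_assoc, F.data.sub.mul_self, one_mul]

omit F in
/-- The property singling out the family of `span (1, 4, 16, 64)`. -/
def Good (F : Frame z Q π P s) : Prop :=
  ∀ n, n * z = z * n → n * s = s * n → (∀ v, F.data.act n v = tv (mk8 4) (mk8 16) v) →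
    Psi F (mk8 64) n false

theorem exists_root : ∃ n, n * z = z * n ∧ n * s = s * n ∧
    ∀ v, F.data.act n v = tv (mk8 4) (mk8 16) v := by
  obtain ⟨hsie, hfix, -, -, -, -, h4, -⟩ := sie_tv
  obtain ⟨w, hw, hwz, hwu⟩ := F.exists_ups h4
  obtain ⟨g, hg, e1, e4, -, -⟩ := exists_basis_map F.data (a := mk8 4) (b := mk8 16) (c := mk8 1)
    (d := mk8 64) (by decide +kernel) (by decide +kernel)
  have hgi : g⁻¹ * z = z * g⁻¹ := (Commute.inv_left hg.1).eq
  have hnz : g * w * g⁻¹ * z = z * (g * w * g⁻¹) :=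
    ((Commute.mul_left hg.1 hwz).mul_left hgi).eq
  have hact : ∀ v, F.data.act (g * w * g⁻¹) v = tv (mk8 4) (mk8 16) v := fun v => by
    rw [F.data.act_conj hg.1 hwz, F.act_W hw hwz, hwu, hsie, tv_iso (F.data.act_iso hg.1), e1, e4,
      (F.data.act_cancel hg.1 v).2]
  obtain ⟨q, hq, hqs⟩ := exists_fix_s F hnz (by rw [hact, hfix])
  exact ⟨q * (g * w * g⁻¹), (Commute.mul_left (F.data.Q_comm hq) hnz).eq, hqs, fun v => by
    rw [F.data.act_mul (F.data.Q_comm hq) hnz, F.data.act_of_mem hq, hact]⟩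

theorem psi_root {n : G} (hn : n * z = z * n) (hns : n * s = s * n)
    (hact : ∀ v, F.data.act n v = tv (mk8 4) (mk8 16) v) : Psi F (mk8 192) n true := by
  obtain ⟨hok1, hok2, hU1, hU2, hb, hsum, hs1, hs2, hsq, hm, hcomp⟩ := swap_words
  obtain ⟨c, hc, hcs, hcv⟩ := F.exists_pw _ hok1
  obtain ⟨m, hmz, hms, hmv⟩ := F.exists_pw _ hok2
  have h1 : Psi F (mk8 192) c true := hsum ▸ psi_swap F hU1 hU2 hb hc hcs
    (by rw [hcv]; exact hs1) (by rw [hcv]; exact hs2) (fun u hu => by rw [hcv, hcv]; exact hsq u hu)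
  have hU : InU (mk8 192) := by decide
  obtain ⟨e, he⟩ := psi_exists F hU hmz hms (by rw [hmv]; exact hm)
  have h2 := psi_mul F h1 (psi_mul F he he)
  rw [Bool.xor_self, Bool.xor_false] at h2
  have hR : F.InR ((c * (m * m))⁻¹ * n) := inR_of_same F h2.1 h2.2.1 hn hns fun u hu => by
    have hmm : m * m * z = z * (m * m) := (Commute.mul_left hmz hmz).eq
    rw [hact, F.data.act_mul hc hmm, F.data.act_mul hmz hmz, hcv, hmv, hmv]
    exact (hcomp u hu).symm
  have h3 := psi_mul F h2 (psi_inR F hU hR)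
  rwa [mul_inv_cancel_left, Bool.xor_false] at h3

omit F in
/-- Some frame is good. -/
theorem exists_good (F : Frame z Q π P s) :
    ∃ (π' : G → V8) (F' : Frame z Q π' P s), Good F' := by
  obtain ⟨-, -, h64, h128, hU64, hU128, -, hsum⟩ := sie_tv
  obtain ⟨n, hn, hns, hact⟩ := exists_root F
  obtain ⟨e, he⟩ := psi_exists F hU64 hn hns (by rw [hact]; exact h64)
  obtain ⟨e', he'⟩ := psi_exists F hU128 hn hns (by rw [hact]; exact h128)
  have hx := psi_unique F (psi_root F hn hns hact) (hsum ▸ psi_add F he he')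
  have good_of : ∀ {π' : G → V8} (F' : Frame z Q π' P s),
      (∀ v, F'.data.act n v = tv (mk8 4) (mk8 16) v) → Psi F' (mk8 64) n false → Good F' := by
    intro π' F' hact' hpsi m hm hms hmv
    have hR : F'.InR (n⁻¹ * m) := inR_of_same F' hn hns hm hms fun u _ => by rw [hact', hmv]
    have := psi_mul F' hpsi (psi_inR F' hU64 hR)
    rwa [mul_inv_cancel_left, Bool.xor_self] at this
  cases e
  · exact ⟨π, F, good_of F hact he⟩
  · have he'0 : e' = false := by simpa using hx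
    subst he'0
    obtain ⟨-, ht2, ht3, -, ht5, ht6, ht7, htp⟩ := tau_facts
    refine ⟨_, frame_tau F, good_of (frame_tau F) (fun v => ?_) ?_⟩
    · rw [show (frame_tau F).data.act n v = tau (F.data.act n (tau v)) from act_tau F.data hn v,
        hact, tv_iso tau_iso, ht6, ht7, ht3]
    · obtain ⟨hnz, hns', a, w, j, k, i, l, ha, has, hA, hw, hwz, hU, e1, e2, e3⟩ := he'
      refine ⟨hnz, hns', a, w, j, k, i, l, ha, has, ?_, hw, hwz, ?_, e1, e2, e3⟩
      · show pU (tau (π a)) = mk8 64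
        rw [htp, show pU (π a) = mk8 128 from hA, ht5]
      · show pU ((frame_tau F).data.act w d0) = mk8 64
        rw [show (frame_tau F).data.act w d0 = tau (F.data.act w (tau d0)) from
          act_tau F.data hwz d0, ht2, htp, show pU (F.data.act w d0) = mk8 128 from hU, ht5]

end CfsgLib.ConwayGolay
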