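import Cfsg.Agent.ConwayGolay.Stabilizer

/-!
# Counting an invariant subset of the subgroup of order `2 ^ 11` by its fibres
-/

set_option autoImplicit false

namespace CfsgLib.ConwayGolay

open CfsgLib.ConwayType CfsgLib.LargeExtraspecial

theorem code_std : code (tv (mk8 1) (mk8 4)) = 1 ∧
    code (fun v => tv (mk8 1) (mk8 4) (tv (mk8 16) (mk8 64) v)) = 33 ∧ isTwo 1 = true ∧
    isTwo 4 = true := by decide +kernel

variable {G : Type*} [Group G] [Finite G] {z s : G} {Q P : Subgroup G} {π : G → V8}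

section

variable (D : Data z Q π)
include D

open Classical in
/-- The members of a set with a given code. -/
noncomputable def fib (S : Finset G) (k : ℕ) : Finset G := S.filter fun a => acode D a = k

theorem acode_conj_congr {g a m : G} (hg : g ∈ stW D []) (ha : a ∈ theA D) (hm : m ∈ theA D)
    (h : acode D a = acode D m) : acode D (g * a * g⁻¹) = acode D (g * m * g⁻¹) := by
  have hx := inv_mul_mem_wTil D hm ha h.symm
  have hx' := conj_mem_wTil D hg.1 hg.2.1 hx
  rw [show g * a * g⁻¹ = g * m * g⁻¹ * (g * (m⁻¹ * a) * g⁻¹) by group,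
    acode_mul D (stW_conj_A D hg hm) (wTil_le D hx'), (mem_wTil_iff D (wTil_le D hx')).1 hx',
    Nat.xor_zero]

theorem fib_conj (S : Finset G) (hSA : ∀ a ∈ S, a ∈ theA D)
    (hS : ∀ g ∈ stW D [], ∀ a ∈ S, g * a * g⁻¹ ∈ S) {g m : G} (hg : g ∈ stW D []) (hm : m ∈ theA D) :
    (fib D S (acode D m)).card = (fib D S (acode D (g * m * g⁻¹))).card := by
  classical
  have hgm := stW_conj_A D hg hm
  have hback : g⁻¹ * (g * m * g⁻¹) * g⁻¹⁻¹ = m := by group
  refine le_antisymm (Finset.card_le_card_of_injOn (fun a => g * a * g⁻¹) (fun a ha => ?_)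
    (fun a _ b _ h => mul_left_cancel (mul_right_cancel h)))
    (Finset.card_le_card_of_injOn (fun a => g⁻¹ * a * g⁻¹⁻¹) (fun a ha => ?_)
    (fun a _ b _ h => mul_left_cancel (mul_right_cancel h)))
  · obtain ⟨haS, hak⟩ := Finset.mem_filter.1 ha
    exact Finset.mem_filter.2 ⟨hS g hg a haS, acode_conj_congr D hg (hSA a haS) hm hak⟩
  · obtain ⟨haS, hak⟩ := Finset.mem_filter.1 ha
    refine Finset.mem_filter.2 ⟨hS _ (inv_mem hg) a haS, ?_⟩
    rw [acode_conj_congr D (inv_mem hg) (hSA a haS) hgm hak, hback]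

theorem fib_le (S : Finset G) (hSA : ∀ a ∈ S, a ∈ theA D) (k : ℕ) : (fib D S k).card ≤ 32 := by
  classical
  rcases (fib D S k).eq_empty_or_nonempty with h | ⟨m, hm⟩
  · rw [h]; simp
  obtain ⟨hmS, hmk⟩ := Finset.mem_filter.1 hm
  rw [← card_wTil D, ← Nat.card_eq_finsetCard]
  refine Nat.card_le_card_of_injective (fun a => (⟨m⁻¹ * a.1, ?_⟩ : wTil D)) fun a b h =>
    Subtype.ext (mul_left_cancel (congrArg Subtype.val h))
  obtain ⟨haS, hak⟩ := Finset.mem_filter.1 a.2
  exact inv_mul_mem_wTil D (hSA m hmS) (hSA a.1 haS) (hmk.trans hak.symm)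

/-- Divisibility from the orbits of `Q`. -/
theorem orbit_dvd (S : Finset G) (hS : ∀ q ∈ Q, ∀ a ∈ S, q * a * q⁻¹ ∈ S) (n : ℕ)
    (hn : n = 4 ∨ n = 16) (hfix : ∀ a ∈ S, a * z = z * a ∧
      n * (Finset.univ.filter fun v : V8 => D.act a v = v).card ≤ 256) :
    n ∣ S.card := by
  classical
  letI act : MulAction Q {a : G // a ∈ S} :=
    { smul := fun q a => ⟨q.1 * a.1 * q.1⁻¹, hS q q.2 a a.2⟩
      one_smul := fun a => Subtype.ext (by show (1 : G) * a.1 * 1⁻¹ = a.1; group)
      mul_smul := fun q r a => Subtype.ext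
        (by show ((q : G) * r) * a.1 * ((q : G) * r)⁻¹ = (q : G) * ((r : G) * a.1 * (r : G)⁻¹) * (q : G)⁻¹; group) }
  letI := Fintype.ofFinite (Quotient (MulAction.orbitRel Q {a : G // a ∈ S}))
  rw [← Nat.card_eq_finsetCard S, Nat.card_congr (MulAction.selfEquivSigmaOrbits Q {a : G // a ∈ S}),
    Nat.card_sigma]
  refine Finset.dvd_sum fun ω _ => ?_
  obtain ⟨x, hx⟩ : ∃ x, x = ω.out := ⟨_, rfl⟩
  rw [← hx, Nat.card_congr (MulAction.orbitEquivQuotientStabilizer Q x), ← Subgroup.index_eq_card]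
  obtain ⟨hxz, hxn⟩ := hfix x.1 x.2
  set T := MulAction.stabilizer Q x
  set Fx := Finset.univ.filter fun v : V8 => D.act x.1 v = v
  have hcomm : ∀ q : T, (q.1 : G) * x.1 = x.1 * (q.1 : G) := fun q =>
    mul_inv_eq_iff_eq_mul.1 (congrArg Subtype.val (MulAction.mem_stabilizer_iff.1 q.2))
  have hT : Nat.card T ≤ 2 * Fx.card := by
    let f : T → {v : V8 // v ∈ Fx} × Bool := fun q => (⟨π (q.1 : G), Finset.mem_filter.2
      ⟨Finset.mem_univ _, by
        rw [D.act_π hxz q.1.2, ← hcomm q, mul_inv_cancel_right]⟩⟩,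
      decide ((q.1 : G) = D.sec (π (q.1 : G))))
    have hf : Function.Injective f := by
      intro q r h
      simp only [f, Prod.mk.injEq, Subtype.mk.injEq, decide_eq_decide] at h
      obtain ⟨h1, h2⟩ := h
      refine Subtype.ext (Subtype.ext ?_)
      rcases D.eq_or_eq_of_π_eq (D.sec_mem _) q.1.2 (D.π_sec _) with e | e
      · rw [e, h1]; exact (h2.1 e).symm
      · rcases D.eq_or_eq_of_π_eq (D.sec_mem _) r.1.2 (D.π_sec _) with e' | e'
        · exfalso
          have h3 := h2.2 e'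
          exact D.sub.ne_one (mul_eq_right.1 (e.symm.trans h3))
        · rw [e, e', h1]
    have := Nat.card_le_card_of_injective f hf
    rw [Nat.card_prod, Nat.card_eq_finsetCard, show Nat.card Bool = 2 by simp] at this
    omega
  have hmul := T.card_mul_index
  rw [D.card] at hmul
  obtain ⟨k, hk, hidx⟩ := (Nat.dvd_prime_pow Nat.prime_two).1
    (show T.index ∣ 2 ^ 9 from ⟨Nat.card T, by rw [mul_comm, hmul]; norm_num⟩)
  rw [hidx] at hmul
  have hle : n ≤ 2 ^ k := by
    by_contra hlt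
    have h1 : Nat.card T * 2 ^ k < Nat.card T * n :=
      Nat.mul_lt_mul_of_pos_left (not_le.1 hlt) Nat.card_pos
    have h2 : Nat.card T * n ≤ 2 * Fx.card * n := Nat.mul_le_mul_right n hT
    have h3 : 2 * Fx.card * n = 2 * (n * Fx.card) := by ring
    omega
  rw [hidx]
  rcases hn with rfl | rfl
  · exact (Nat.pow_dvd_pow_iff_le_right (by norm_num : 1 < 2)).2 (show 2 ≤ k by
      by_contra h; interval_cases k <;> omega)
  · exact (Nat.pow_dvd_pow_iff_le_right (by norm_num : 1 < 2)).2 (show 4 ≤ k by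
      by_contra h; interval_cases k <;> omega)

end

variable (F : Frame z Q π P s)
include F

/-- The size of an invariant subset. -/
theorem count_formula (hgood : Good F) (S : Finset G) (hSA : ∀ a ∈ S, a ∈ theA F.data)
    (hS : ∀ g ∈ stW F.data [], ∀ a ∈ S, g * a * g⁻¹ ∈ S) :
    ∃ i j : ℕ, i ≤ 8 ∧ j ≤ 2 ∧ S.card = (fib F.data S 0).card + 140 * i + 448 * j ∧
      ∀ k < 64, isTwo k = true → k ≠ 0 → (fib F.data S k).card = 4 * i := by
  classical
  obtain ⟨c1, c33, t1, -⟩ := code_std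
  obtain ⟨S0, -, -, -, -, hsurj⟩ := exists_gens F hgood
  have hstd : ∀ v ∈ [mk8 1, mk8 4, mk8 16, mk8 64], InW v := fun v hv => (eW_mem v hv).1
  obtain ⟨m, hm, -⟩ := exists_lift_of F (a := mk8 1) (c := mk8 4) (x := mk8 16) (y := mk8 64)
    (by decide +kernel) hstd
  obtain ⟨m', hm', -⟩ := exists_lift_of F (a := mk8 16) (c := mk8 64) (x := mk8 1) (y := mk8 4)
    (by decide +kernel) (by decide +kernel)
  have hmact : ∀ v, F.data.act (m * m') v = tv (mk8 1) (mk8 4) (tv (mk8 16) (mk8 64) v) := fun v => by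
    rw [F.data.act_mul (theA_comm_z _ hm.1) (theA_comm_z _ hm'.1), hm'.2, hm.2]
  have em : acode F.data m = 1 := by rw [acode, funext hm.2, c1]
  have emm : acode F.data (m * m') = 33 := by rw [acode, funext hmact, c33]
  have hmove : ∀ l ∈ repsTwo ++ repsFour, ∀ a c x y, l = [a, c, x, y] →
      ∃ g ∈ stW F.data [], F.data.act g (mk8 1) = a ∧ F.data.act g (mk8 4) = c ∧
        F.data.act g (mk8 16) = x ∧ F.data.act g (mk8 64) = y := by
    intro l hl a c x y e
    obtain ⟨hi, hW⟩ := reps_indep l hl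
    rw [e] at hi hW
    obtain ⟨g, hg, h1, h2, h3, h4⟩ := exists_basis_map F.data hi hW
    exact ⟨g, lev_stW _ hg (by simp), h1, h2, h3, h4⟩
  have hshape : ∀ l ∈ repsTwo ++ repsFour, ∃ a c x y, l = [a, c, x, y] := by
    intro l hl
    match l, (reps_indep l hl).1.1 with
    | [a, c, x, y], _ => exact ⟨a, c, x, y, rfl⟩
  have htwo : ∀ k < 64, k ≠ 0 → isTwo k = true → (fib F.data S k).card = (fib F.data S 1).card := by
    intro k hk hk0 hk2
    rcases reps_cover k hk hk0 with ⟨-, l, hl, hlk⟩ | ⟨h, -⟩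
    · obtain ⟨a, c, x, y, e⟩ := hshape l (List.mem_append_left _ hl)
      obtain ⟨g, hg, g1, g2, -, -⟩ := hmove l (List.mem_append_left _ hl) a c x y e
      rw [← em, fib_conj F.data S hSA hS hg hm.1]
      congr 2
      rw [← hlk, e, codeTwo, acode]
      congr 1
      funext v
      rw [F.data.act_conj hg.1 (theA_comm_z _ hm.1), hm.2, tv_iso (F.data.act_iso hg.1), g1, g2,
        (F.data.act_cancel hg.1 v).2]
    · rw [hk2] at h; exact absurd h (by simp)
  have hfour : ∀ k < 64, k ≠ 0 → isTwo k = false → (fib F.data S k).card = (fib F.data S 33).card := by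
    intro k hk hk0 hk2
    rcases reps_cover k hk hk0 with ⟨h, -⟩ | ⟨-, l, hl, hlk⟩
    · rw [hk2] at h; exact absurd h (by simp)
    · obtain ⟨a, c, x, y, e⟩ := hshape l (List.mem_append_right _ hl)
      obtain ⟨g, hg, g1, g2, g3, g4⟩ := hmove l (List.mem_append_right _ hl) a c x y e
      rw [← emm, fib_conj F.data S hSA hS hg (mul_mem hm.1 hm'.1)]
      congr 2
      rw [← hlk, e, codeFour, acode]
      congr 1
      funext v
      rw [F.data.act_conj hg.1 (theA_comm_z _ (mul_mem hm.1 hm'.1)), hmact,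
        tv_iso (F.data.act_iso hg.1), tv_iso (F.data.act_iso hg.1), g1, g2, g3, g4,
        (F.data.act_cancel hg.1 v).2]
  have hQfib : ∀ k, ∀ q ∈ Q, ∀ a ∈ fib F.data S k, q * a * q⁻¹ ∈ fib F.data S k := by
    intro k q hq a ha
    obtain ⟨haS, hak⟩ := Finset.mem_filter.1 ha
    refine Finset.mem_filter.2 ⟨hS q (mem_stW_of_mem_Q _ hq _) a haS, ?_⟩
    rw [← hak, acode, acode]
    congr 1
    funext v
    rw [F.data.act_conj (F.data.Q_comm hq) (theA_comm_z _ (hSA a haS)), F.data.act_of_mem hq,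
      F.data.act_of_mem (inv_mem hq)]
  obtain ⟨f64, f16⟩ := fix_counts
  have hd2 : 4 ∣ (fib F.data S 1).card := orbit_dvd F.data _ (hQfib 1) 4 (Or.inl rfl) fun a ha => by
    obtain ⟨haS, hak⟩ := Finset.mem_filter.1 ha
    refine ⟨theA_comm_z _ (hSA a haS), ?_⟩
    have he : F.data.act a = tv (mk8 1) (mk8 4) := funext fun v => by
      rw [← hm.2]
      exact code_inj (F.data.act_iso (theA_comm_z _ (hSA a haS))) (F.data.act_iso (theA_comm_z _ hm.1))
        (fun _ h => act_theA _ (hSA a haS) h) (fun _ h => act_theA _ hm.1 h) (hak.trans em.symm) v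
    rw [he, f64]
  have hd4 : 16 ∣ (fib F.data S 33).card := orbit_dvd F.data _ (hQfib 33) 16 (Or.inr rfl) fun a ha => by
    obtain ⟨haS, hak⟩ := Finset.mem_filter.1 ha
    refine ⟨theA_comm_z _ (hSA a haS), ?_⟩
    have hM := mul_mem hm.1 hm'.1
    have he : F.data.act a = fun v => tv (mk8 1) (mk8 4) (tv (mk8 16) (mk8 64) v) := funext fun v => by
      rw [← hmact]
      exact code_inj (F.data.act_iso (theA_comm_z _ (hSA a haS))) (F.data.act_iso (theA_comm_z _ hM))
        (fun _ h => act_theA _ (hSA a haS) h) (fun _ h => act_theA _ hM h) (hak.trans emm.symm) v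
    rw [he, f16]
  obtain ⟨i, hi⟩ := hd2
  obtain ⟨j, hj⟩ := hd4
  have hi8 := fib_le F.data S hSA 1
  have hj2 := fib_le F.data S hSA 33
  refine ⟨i, j, by omega, by omega, ?_, fun k hk h2 h0 => by rw [htwo k hk h0 h2, hi]⟩
  have hfibres : S.card = ∑ k ∈ Finset.range 64, (fib F.data S k).card :=
    Finset.card_eq_sum_card_fiberwise fun a _ => Finset.mem_range.2 (code_lt _)
  rw [hfibres, ← Finset.add_sum_erase _ _ (show 0 ∈ Finset.range 64 by simp), add_assoc,
    add_left_cancel_iff, ← Finset.sum_filter_add_sum_filter_not _ (fun k => isTwo k = true)]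
  obtain ⟨n35, n28⟩ := codes_count
  rw [Finset.sum_const_nat (m := 4 * i) (fun k hk => by
      simp only [Finset.mem_filter, Finset.mem_erase, Finset.mem_range] at hk
      rw [htwo k hk.1.2 hk.1.1 hk.2, hi]),
    Finset.sum_const_nat (m := 16 * j) (fun k hk => by
      simp only [Finset.mem_filter, Finset.mem_erase, Finset.mem_range] at hk
      rw [hfour k hk.1.2 hk.1.1 (by simpa using hk.2), hj])]
  have e1 : (((Finset.range 64).erase 0).filter fun k => isTwo k = true) =
      (Finset.range 64).filter fun k => k ≠ 0 ∧ isTwo k = true := by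
    ext k; simp only [Finset.mem_filter, Finset.mem_erase]; exact ⟨fun h => ⟨h.1.2, h.1.1, h.2⟩, fun h => ⟨⟨h.2.1, h.1⟩, h.2.2⟩⟩
  have e2 : (((Finset.range 64).erase 0).filter fun k => ¬ isTwo k = true) =
      (Finset.range 64).filter fun k => k ≠ 0 ∧ isTwo k = false := by
    ext k; simp only [Finset.mem_filter, Finset.mem_erase, Bool.not_eq_true]; exact ⟨fun h => ⟨h.1.2, h.1.1, h.2⟩, fun h => ⟨⟨h.2.1, h.1⟩, h.2.2⟩⟩
  rw [e1, e2, n35, n28]
  ring

end CfsgLib.ConwayGolay
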