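import Cfsg.Agent.ConwayGolay.Stabilizer

/-!
# A complement of `z` over the opposite subspace, and elements normalising it
-/

set_option autoImplicit false

namespace CfsgLib.ConwayGolay

open CfsgLib.ConwayType CfsgLib.LargeExtraspecial

theorem inF_facts : InF 0 ∧ ¬ InF s0 ∧ InF (mk8 2) ∧ InF (mk8 8) ∧ InF (mk8 32) ∧ InF (mk8 128) ∧
    (∀ u : V8, InF u → ∀ v : V8, InF v → b8 u v = false) ∧ (∀ v : V8, InF v → q8 v = false) ∧
    (∀ v : V8, InF v → v = sm (b8 v (mk8 1)) (mk8 2) + sm (b8 v (mk8 4)) (mk8 8) +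
      sm (b8 v (mk8 16)) (mk8 32) + sm (b8 v (mk8 64)) (mk8 128)) := by decide +kernel

theorem dual_table : ∀ b1 b2 b3 b4 : Bool,
    InW (sm b1 (mk8 1) + sm b2 (mk8 4) + sm b3 (mk8 16) + sm b4 (mk8 64)) ∧
    b8 (sm b1 (mk8 1) + sm b2 (mk8 4) + sm b3 (mk8 16) + sm b4 (mk8 64)) (mk8 2) = b1 ∧
    b8 (sm b1 (mk8 1) + sm b2 (mk8 4) + sm b3 (mk8 16) + sm b4 (mk8 64)) (mk8 8) = b2 ∧
    b8 (sm b1 (mk8 1) + sm b2 (mk8 4) + sm b3 (mk8 16) + sm b4 (mk8 64)) (mk8 32) = b3 ∧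
    b8 (sm b1 (mk8 1) + sm b2 (mk8 4) + sm b3 (mk8 16) + sm b4 (mk8 64)) (mk8 128) = b4 := by
  decide +kernel

/-- The element or the identity. -/
def pick {G : Type*} [One G] (b : Bool) (x : G) : G := if b then x else 1

variable {G : Type*} [Group G] {z s : G} {Q P : Subgroup G} {π : G → V8} (D : Data z Q π)

/-- The section over the opposite subspace. -/
noncomputable def sect (v : V8) : G :=
  pick (b8 v (mk8 1)) (D.sec (mk8 2)) * pick (b8 v (mk8 4)) (D.sec (mk8 8)) *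
    pick (b8 v (mk8 16)) (D.sec (mk8 32)) * pick (b8 v (mk8 64)) (D.sec (mk8 128))

include D

theorem pick_xor {x : G} (hx : x * x = 1) (a b : Bool) : pick (xor a b) x = pick a x * pick b x := by
  cases a <;> cases b <;> simp [pick, hx]

theorem sec_comm_F {u v : V8} (hu : InF u) (hv : InF v) :
    Commute (D.sec u) (D.sec v) :=
  (D.commute_iff (D.sec_mem u) (D.sec_mem v)).2
    (by rw [D.π_sec, D.π_sec]; exact inF_facts.2.2.2.2.2.2.1 u hu v hv)

theorem sec_sq_F {u : V8} (hu : InF u) : D.sec u * D.sec u = 1 :=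
  (D.sq _ (D.sec_mem u)).2 (by rw [D.π_sec]; exact inF_facts.2.2.2.2.2.2.2.1 u hu)

theorem sect_add (u v : V8) : sect D (u + v) = sect D u * sect D v := by
  obtain ⟨-, -, h2, h8, h32, h128, -⟩ := inF_facts
  have c : ∀ {x y : G}, Commute x y → ∀ a b, Commute (pick a x) (pick b y) := by
    intro x y h a b
    cases a <;> cases b <;> simp [pick, h]
  simp only [sect, b8_add_left, pick_xor D (sec_sq_F D h2), pick_xor D (sec_sq_F D h8),
    pick_xor D (sec_sq_F D h32), pick_xor D (sec_sq_F D h128)]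
  generalize b8 u (mk8 1) = a1
  generalize b8 u (mk8 4) = a2
  generalize b8 u (mk8 16) = a3
  generalize b8 u (mk8 64) = a4
  generalize b8 v (mk8 1) = c1
  generalize b8 v (mk8 4) = c2
  generalize b8 v (mk8 16) = c3
  generalize b8 v (mk8 64) = c4
  have e1 := (c (sec_comm_F D h8 h2) a2 c1).mul_mul_mul_comm (pick a1 (D.sec (mk8 2))) (pick c2 (D.sec (mk8 8)))
  have e2 : Commute (pick a3 (D.sec (mk8 32))) (pick c1 (D.sec (mk8 2)) * pick c2 (D.sec (mk8 8))) :=
    Commute.mul_right (c (sec_comm_F D h32 h2) a3 c1) (c (sec_comm_F D h32 h8) a3 c2)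
  have e3 : Commute (pick a4 (D.sec (mk8 128)))
      (pick c1 (D.sec (mk8 2)) * pick c2 (D.sec (mk8 8)) * pick c3 (D.sec (mk8 32))) :=
    Commute.mul_right (Commute.mul_right (c (sec_comm_F D h128 h2) a4 c1)
      (c (sec_comm_F D h128 h8) a4 c2)) (c (sec_comm_F D h128 h32) a4 c3)
  rw [e3.mul_mul_mul_comm, e2.mul_mul_mul_comm, e1]

theorem sect_mem_Q (v : V8) : sect D v ∈ Q := by
  have h : ∀ b u, pick b (D.sec u) ∈ Q := fun b u => by cases b <;> simp [pick, D.sec_mem]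
  exact mul_mem (mul_mem (mul_mem (h _ _) (h _ _)) (h _ _)) (h _ _)

theorem π_sect {v : V8} (hv : InF v) : π (sect D v) = v := by
  have h : ∀ b u, pick b (D.sec u) ∈ Q := fun b u => by cases b <;> simp [pick, D.sec_mem]
  have hp : ∀ b u, π (pick b (D.sec u)) = sm b u := fun b u => by
    cases b <;> simp [pick, sm, D.π_one, D.π_sec]
  rw [sect, D.map_mul _ (mul_mem (mul_mem (h _ _) (h _ _)) (h _ _)) _ (h _ _),
    D.map_mul _ (mul_mem (h _ _) (h _ _)) _ (h _ _), D.map_mul _ (h _ _) _ (h _ _), hp, hp, hp, hp]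
  exact (inF_facts.2.2.2.2.2.2.2.2 v hv).symm

theorem sect_zero : sect D 0 = 1 := by simp [sect, pick, b8_zero_left]

/-- The complement of `z` over the opposite subspace. -/
def eGrp : Subgroup G where
  carrier := {x | x ∈ Q ∧ InF (π x) ∧ x = sect D (π x)}
  one_mem' := ⟨one_mem Q, by rw [D.π_one]; exact inF_facts.1, by rw [D.π_one, sect_zero]⟩
  mul_mem' := fun {x y} hx hy => ⟨mul_mem hx.1 hy.1,
    by rw [D.map_mul x hx.1 y hy.1]; exact inF_add _ _ hx.2.1 hy.2.1,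
    by rw [D.map_mul x hx.1 y hy.1, sect_add, ← hx.2.2, ← hy.2.2]⟩
  inv_mem' := fun {x} hx => by
    have h2 : x⁻¹ = x := inv_eq_of_mul_eq_one_right
      ((D.sq x hx.1).2 (inF_facts.2.2.2.2.2.2.2.1 _ hx.2.1))
    rw [h2]; exact hx

theorem eGrp_facts {x : G} (hx : x ∈ eGrp D) : x ∈ Q ∧ InF (π x) ∧ x = sect D (π x) := hx

theorem z_not_mem_eGrp : z ∉ eGrp D := fun h => D.sub.ne_one (by
  have := h.2.2
  rwa [D.π_z, sect_zero] at this)

theorem eGrp_inj {x y : G} (hx : x ∈ eGrp D) (hy : y ∈ eGrp D) (h : π x = π y) : x = y :=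
  hx.2.2.trans ((congrArg (sect D) h).trans hy.2.2.symm)

theorem sect_mem_eGrp {v : V8} (hv : InF v) : sect D v ∈ eGrp D :=
  ⟨sect_mem_Q D v, by rw [π_sect D hv]; exact hv, by rw [π_sect D hv]⟩

theorem sec_mem_eGrp : D.sec (mk8 2) ∈ eGrp D ∧ D.sec (mk8 8) ∈ eGrp D ∧
    D.sec (mk8 32) ∈ eGrp D ∧ D.sec (mk8 128) ∈ eGrp D := by
  obtain ⟨-, -, h2, h8, h32, h128, -⟩ := inF_facts
  have e : b8 (mk8 2) (mk8 1) = true ∧ b8 (mk8 2) (mk8 4) = false ∧ b8 (mk8 2) (mk8 16) = false ∧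
    b8 (mk8 2) (mk8 64) = false ∧ b8 (mk8 8) (mk8 1) = false ∧ b8 (mk8 8) (mk8 4) = true ∧
    b8 (mk8 8) (mk8 16) = false ∧ b8 (mk8 8) (mk8 64) = false ∧ b8 (mk8 32) (mk8 1) = false ∧
    b8 (mk8 32) (mk8 4) = false ∧ b8 (mk8 32) (mk8 16) = true ∧ b8 (mk8 32) (mk8 64) = false ∧
    b8 (mk8 128) (mk8 1) = false ∧ b8 (mk8 128) (mk8 4) = false ∧ b8 (mk8 128) (mk8 16) = false ∧
    b8 (mk8 128) (mk8 64) = true := by decide
  refine ⟨?_, ?_, ?_, ?_⟩
  · have := sect_mem_eGrp D h2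
    rwa [show sect D (mk8 2) = D.sec (mk8 2) by simp [sect, pick, e]] at this
  · have := sect_mem_eGrp D h8
    rwa [show sect D (mk8 8) = D.sec (mk8 8) by simp [sect, pick, e]] at this
  · have := sect_mem_eGrp D h32
    rwa [show sect D (mk8 32) = D.sec (mk8 32) by simp [sect, pick, e]] at this
  · have := sect_mem_eGrp D h128
    rwa [show sect D (mk8 128) = D.sec (mk8 128) by simp [sect, pick, e]] at this

variable [Finite G]

/-- Elements of `C(z)` normalising the complement. -/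
def tGrp : Subgroup G :=
  Subgroup.normalizer (eGrp D : Set G) ⊓ Subgroup.centralizer ({z} : Set G)

theorem tGrp_z {c : G} (hc : c ∈ tGrp D) : c * z = z * c :=
  Subgroup.mem_centralizer_singleton_iff.1 hc.2

theorem tGrp_conj {c x : G} (hc : c ∈ tGrp D) (hx : x ∈ eGrp D) : c * x * c⁻¹ ∈ eGrp D :=
  (Subgroup.mem_normalizer_iff.1 hc.1 x).1 hx

theorem mem_tGrp {c : G} (hcz : c * z = z * c)
    (h : ∀ u ∈ eF, c * D.sec u * c⁻¹ ∈ eGrp D) : c ∈ tGrp D := by
  refine ⟨mem_normalizer_of_conj D _ fun x hx => ?_, Subgroup.mem_centralizer_singleton_iff.2 hcz⟩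
  rw [hx.2.2]
  have hp : ∀ b : Bool, ∀ u ∈ eF, c * pick b (D.sec u) * c⁻¹ ∈ eGrp D := fun b u hu => by
    cases b
    · simp [pick]
    · exact h u hu
  rw [sect, show ∀ p q r t : G, c * (p * q * r * t) * c⁻¹ =
    (c * p * c⁻¹) * (c * q * c⁻¹) * (c * r * c⁻¹) * (c * t * c⁻¹) from fun p q r t => by group]
  exact mul_mem (mul_mem (mul_mem (hp _ _ (by simp [eF])) (hp _ _ (by simp [eF])))
    (hp _ _ (by simp [eF]))) (hp _ _ (by simp [eF]))

theorem tGrp_lev {c : G} (hc : c ∈ tGrp D) {v : V8} (hv : InF v) : InF (D.act c v) := by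
  rw [← π_sect D hv, D.act_π (tGrp_z D hc) (sect_mem_Q D v)]
  exact (tGrp_conj D hc (sect_mem_eGrp D hv)).2.1

theorem eGrp_le_tGrp : eGrp D ≤ tGrp D :=
  fun _ hx => ⟨Subgroup.le_normalizer hx, Subgroup.mem_centralizer_singleton_iff.2 (D.Q_comm hx.1)⟩

/-- Elements of `Q` normalising the complement. -/
theorem tGrp_inf_Q {q : G} (hq : q ∈ Q) (hqT : q ∈ tGrp D) : ∃ e ∈ eGrp D, q = e ∨ q = z * e := by
  have hF : InF (π q) := inF_of_orth _ fun u hu => by
    have hu' := (eF_mem u hu).1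
    have hmem := sect_mem_eGrp D hu'
    rw [← π_sect D hu']
    refine (D.commute_iff hq (sect_mem_Q D u)).1 ?_
    rcases D.sub.conj_eq hq (sect_mem_Q D u) with e | e
    · exact mul_inv_eq_iff_eq_mul.1 e
    · exfalso
      have h := mul_mem (tGrp_conj D hqT hmem) (inv_mem hmem)
      rw [e, mul_inv_cancel_right] at h
      exact z_not_mem_eGrp D h
  refine ⟨sect D (π q), sect_mem_eGrp D hF, ?_⟩
  exact D.eq_or_eq_of_π_eq (sect_mem_Q D _) hq (π_sect D hF)

/-- Changing the lift does not change whether the square lies in the complement. -/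
theorem sq_congr {g g' : G} (hg : g ∈ tGrp D) (hg' : g' ∈ tGrp D)
    (h : ∀ v, D.act g v = D.act g' v) (h2 : g * g ∈ eGrp D) : g' * g' ∈ eGrp D := by
  have hgz := tGrp_z D hg
  have hgi : g⁻¹ * z = z * g⁻¹ := (Commute.inv_left hgz).eq
  have hq : g⁻¹ * g' ∈ Q := D.mem_of_act (Commute.mul_left hgi (tGrp_z D hg')).eq fun v => by
    rw [D.act_mul hgi (tGrp_z D hg'), ← h, (D.act_cancel hgz v).1]
  obtain ⟨e, he, hcase⟩ := tGrp_inf_Q D hq (mul_mem (inv_mem hg) hg')
  have hmid : g⁻¹ * e * g⁻¹⁻¹ ∈ eGrp D := tGrp_conj D (inv_mem hg) he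
  have hmain : g * e * (g * e) = (g * g) * (g⁻¹ * e * g⁻¹⁻¹) * e := by group
  rw [show g' = g * (g⁻¹ * g') by group]
  rcases hcase with r | r <;> rw [r]
  · rw [hmain]; exact mul_mem (mul_mem h2 hmid) he
  · have hcz : Commute (g * e) z := Commute.mul_left hgz (D.Q_comm he.1)
    rw [show g * (z * e) = z * (g * e) by rw [← mul_assoc, hgz, mul_assoc],
      show z * (g * e) * (z * (g * e)) = z * ((g * e) * z) * (g * e) by group, hcz.eq, ← mul_assoc z,
      D.sub.mul_self, one_mul, hmain]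
    exact mul_mem (mul_mem h2 hmid) he

theorem exists_tGrp {c : G} (hc : Lev D c) :
    ∃ c', c' ∈ tGrp D ∧ ∀ v, D.act c' v = D.act c v := by
  classical
  let ε : V8 → Bool := fun u => decide (c * D.sec u * c⁻¹ ∉ eGrp D)
  obtain ⟨q, hq, hqπ⟩ := D.surj (sm (ε (mk8 2)) (mk8 1) + sm (ε (mk8 8)) (mk8 4) +
    sm (ε (mk8 32)) (mk8 16) + sm (ε (mk8 128)) (mk8 64))
  obtain ⟨-, t2, t8, t32, t128⟩ := dual_table (ε (mk8 2)) (ε (mk8 8)) (ε (mk8 32)) (ε (mk8 128))
  rw [← hqπ] at t2 t8 t32 t128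
  have hqz := D.Q_comm hq
  refine ⟨c * q, mem_tGrp D (Commute.mul_left hc.1 hqz).eq fun u hu => ?_,
    fun v => by rw [D.act_mul hc.1 hqz, D.act_of_mem hq]⟩
  have hqu : b8 (π q) u = ε u := by
    simp only [eF, List.map_cons, List.map_nil, List.mem_cons, List.not_mem_nil, or_false] at hu
    rcases hu with rfl | rfl | rfl | rfl <;> assumption
  have hcu : InF (D.act c u) := hc.2.2 u (eF_mem u hu).1
  have hy := D.sub.conj_mem hc.1 (D.sec_mem u)
  have hπy : π (sect D (D.act c u)) = π (c * D.sec u * c⁻¹) := by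
    rw [π_sect D hcu, ← D.act_π hc.1 (D.sec_mem u), D.π_sec]
  rw [show c * q * D.sec u * (c * q)⁻¹ = c * (q * D.sec u * q⁻¹) * c⁻¹ by group]
  by_cases hcase : c * D.sec u * c⁻¹ ∈ eGrp D
  · have hb : b8 (π q) u = false := by rw [hqu]; simp [ε, hcase]
    rw [mul_inv_eq_iff_eq_mul.2 ((D.commute_iff hq (D.sec_mem u)).2 (by rw [D.π_sec]; exact hb))]
    exact hcase
  · have hb : b8 (π q) u = true := by rw [hqu]; simp [ε, hcase]
    have e := (D.eq_or_eq_of_π_eq (sect_mem_Q D _) hy hπy).resolve_left fun e =>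
      hcase (e ▸ sect_mem_eGrp D hcu)
    rw [D.sub.conj_of_not_commute hq (D.sec_mem u) fun hcm => by
        have := (D.commute_iff hq (D.sec_mem u)).1 hcm
        rw [D.π_sec, hb] at this
        simp at this,
      show c * (z * D.sec u) * c⁻¹ = (c * z * c⁻¹) * (c * D.sec u * c⁻¹) by group,
      mul_inv_eq_iff_eq_mul.2 hc.1, e, ← mul_assoc, D.sub.mul_self, one_mul]
    exact sect_mem_eGrp D hcu

theorem tGrp_inf_theA {k : G} (hk : k ∈ tGrp D) (hA : k ∈ theA D) : k = 1 ∨ k = z := by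
  have hkz := tGrp_z D hk
  have hfix : ∀ u ∈ eF, D.act k u = u := fun u hu => eq_of_add_eq_zero8 (inW_and_inF _
    (move_inW (D.act_iso hkz) (fun _ h => act_theA D hA h) u)
    (inF_add _ _ (tGrp_lev D hk (eF_mem u hu).1) (eF_mem u hu).1))
  have hQ : k ∈ Q := D.mem_of_act hkz fun v => (D.act_iso hkz).ext_basis ⟨fun _ _ => rfl, fun _ => rfl⟩
    (List.map_congr_left fun x hx => by
      simp only [basis8, List.map_cons, List.map_nil, List.mem_cons, List.not_mem_nil, or_false] at hx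
      rcases hx with rfl | rfl | rfl | rfl | rfl | rfl | rfl | rfl <;>
        first
          | exact act_theA D hA (by decide)
          | exact hfix _ (by simp [eF])) v
  obtain ⟨e, he, hcase⟩ := tGrp_inf_Q D hQ hk
  have hW := (mem_wTil_of_mem_Q D hA hQ).2
  have h0 : e = 1 := by
    refine eGrp_inj D he (one_mem _) ?_
    rw [D.π_one]
    refine inW_and_inF _ ?_ he.2.1
    rcases hcase with r | r <;> rw [r] at hW
    · exact hW
    · rwa [D.π_z_mul he.1] at hW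
  rw [h0, mul_one] at hcase
  exact hcase

end CfsgLib.ConwayGolay
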