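import Cfsg.Agent.ConwayGolay.Bits

/-!
# Transitivity of the common stabiliser of two opposite subspaces on bases
-/

set_option autoImplicit false

namespace CfsgLib.ConwayGolay

open CfsgLib.ConwayType CfsgLib.LargeExtraspecial

variable {G : Type*} [Group G] {z : G} {Q : Subgroup G} {π : G → V8}

/-- Elements of `C(z)` stabilising the two subspaces. -/
def Lev (D : Data z Q π) (c : G) : Prop :=
  c * z = z * c ∧ (∀ v, InW v → InW (D.act c v)) ∧ ∀ v, InF v → InF (D.act c v)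

variable (D : Data z Q π)
include D

theorem lev_one : Lev D 1 :=
  ⟨by simp, fun v hv => by rwa [D.act_one], fun v hv => by rwa [D.act_one]⟩

theorem lev_mul {c d : G} (hc : Lev D c) (hd : Lev D d) : Lev D (c * d) :=
  ⟨(Commute.mul_left hc.1 hd.1).eq, fun v hv => by rw [D.act_mul hc.1 hd.1]; exact hc.2.1 _ (hd.2.1 v hv),
    fun v hv => by rw [D.act_mul hc.1 hd.1]; exact hc.2.2 _ (hd.2.2 v hv)⟩

variable [Finite G]

theorem lev_pow {c : G} (hc : Lev D c) : ∀ k : ℕ, Lev D (c ^ k)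
  | 0 => by rw [pow_zero]; exact lev_one D
  | k + 1 => by rw [pow_succ]; exact lev_mul D (lev_pow hc k) hc

theorem lev_inv {c : G} (hc : Lev D c) : Lev D c⁻¹ := by
  have h : c⁻¹ = c ^ (orderOf c - 1) := by
    refine inv_eq_of_mul_eq_one_right ?_
    rw [← pow_succ', Nat.sub_add_cancel (orderOf_pos c), pow_orderOf_eq_one]
  rw [h]
  exact lev_pow D hc _

omit [Finite G] in
theorem orbit_reach {gens : List (List (ℕ × ℕ))} {L : List V8} {x : V8} (fix : List V8)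
    (hg : ∀ w ∈ gens, (∀ p ∈ w, okPair p = true) ∧ (∀ v : V8, InW v → InW (pw w v)) ∧
      (∀ v : V8, InF v → InF (pw w v)) ∧ ∀ e ∈ fix, pw w e = e)
    (hL : chainOK (gens.map pw) x L = true) :
    ∀ v ∈ L, ∃ c, Lev D c ∧ (∀ e ∈ fix, D.act c e = e) ∧ D.act c x = v :=
  chainOK_prop (P := fun v => ∃ c, Lev D c ∧ (∀ e ∈ fix, D.act c e = e) ∧ D.act c x = v)
    ⟨1, lev_one D, fun e _ => D.act_one e, D.act_one x⟩ (fun g hgm v ⟨c, hc, hcf, hcv⟩ => by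
      obtain ⟨w, hw, rfl⟩ := List.mem_map.1 hgm
      obtain ⟨hok, hwW, hwF, hwf⟩ := hg w hw
      obtain ⟨d, hd, hdv⟩ := D.exists_pw w hok
      refine ⟨d * c, lev_mul D ⟨hd, fun u hu => by rw [hdv]; exact hwW u hu,
        fun u hu => by rw [hdv]; exact hwF u hu⟩ hc, fun e he => ?_, ?_⟩
      · rw [D.act_mul hd hc.1, hcf e he, hdv, hwf e he]
      · rw [D.act_mul hd hc.1, hcv, hdv]) L hL

omit [Finite G] in
theorem stage_zero {v : V8} (hv : InW v) (h : v ≠ 0) : ∃ c, Lev D c ∧ D.act c (mk8 1) = v := by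
  obtain ⟨c, hc, -, hcv⟩ := orbit_reach D [] (fun w hw =>
    ⟨(wGens0_ok w hw).1, (wGens0_ok w hw).2.1, (wGens0_ok w hw).2.2, by simp⟩)
    wOrb0_facts.1 v (wOrb0_facts.2 v hv h)
  exact ⟨c, hc, hcv⟩

omit [Finite G] in
theorem stage_one {v : V8} (hv : InW v) (h : v.bits &&& 84 ≠ 0) :
    ∃ c, Lev D c ∧ D.act c (mk8 1) = mk8 1 ∧ D.act c (mk8 4) = v := by
  obtain ⟨c, hc, hcf, hcv⟩ := orbit_reach D [mk8 1] (fun w hw =>
    ⟨(wGens1_ok w hw).1, (wGens1_ok w hw).2.1, (wGens1_ok w hw).2.2.1,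
      by simp [(wGens1_ok w hw).2.2.2]⟩)
    wOrb1_facts.1 v (wOrb1_facts.2 v hv h)
  exact ⟨c, hc, hcf _ (by simp), hcv⟩

omit [Finite G] in
theorem stage_two {v : V8} (hv : InW v) (h : v.bits &&& 80 ≠ 0) :
    ∃ c, Lev D c ∧ D.act c (mk8 1) = mk8 1 ∧ D.act c (mk8 4) = mk8 4 ∧ D.act c (mk8 16) = v := by
  obtain ⟨c, hc, hcf, hcv⟩ := orbit_reach D [mk8 1, mk8 4] (fun w hw =>
    ⟨(wGens2_ok w hw).1, (wGens2_ok w hw).2.1, (wGens2_ok w hw).2.2.1,
      by simp [(wGens2_ok w hw).2.2.2.1, (wGens2_ok w hw).2.2.2.2]⟩)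
    wOrb2_facts.1 v (wOrb2_facts.2 v hv h)
  exact ⟨c, hc, hcf _ (by simp), hcf _ (by simp), hcv⟩

omit [Finite G] in
theorem stage_three {v : V8} (hv : InW v) (h : v.bits &&& 64 ≠ 0) :
    ∃ c, Lev D c ∧ D.act c (mk8 1) = mk8 1 ∧ D.act c (mk8 4) = mk8 4 ∧
      D.act c (mk8 16) = mk8 16 ∧ D.act c (mk8 64) = v := by
  obtain ⟨c, hc, hcf, hcv⟩ := orbit_reach D [mk8 1, mk8 4, mk8 16] (fun w hw =>
    ⟨(wGens3_ok w hw).1, (wGens3_ok w hw).2.1, (wGens3_ok w hw).2.2.1,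
      by simp [(wGens3_ok w hw).2.2.2.1, (wGens3_ok w hw).2.2.2.2.1, (wGens3_ok w hw).2.2.2.2.2]⟩)
    wOrb3_facts.1 v (wOrb3_facts.2 v hv h)
  exact ⟨c, hc, hcf _ (by simp), hcf _ (by simp), hcf _ (by simp), hcv⟩

omit [Finite G] in
theorem indep_act {c : G} (hc : c * z = z * c) {l : List V8} (h : Indep l) :
    Indep (l.map (D.act c)) := by
  refine ⟨by rw [List.length_map]; exact h.1, fun k hk hk0 e => h.2 k hk hk0 ?_⟩
  rw [bitsum_map (D.act_iso hc).add (D.act_iso hc).zero] at e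
  rw [← (D.act_cancel hc (bitsum l k)).1, e, (D.act_iso (Commute.inv_left hc).eq).zero]

end CfsgLib.ConwayGolay
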