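import Cfsg.Agent.ConwayGolay.Levi

/-!
# Every independent quadruple of the subspace is the image of the standard basis
-/

set_option autoImplicit false

namespace CfsgLib.ConwayGolay

open CfsgLib.ConwayType

theorem bits_small84 : ∀ v : V8, InW v → v.bits &&& 84 = 0 → ∃ k ∈ List.range 2,
    bitsum [mk8 1] k = v := by decide +kernel

theorem bits_small80 : ∀ v : V8, InW v → v.bits &&& 80 = 0 → ∃ k ∈ List.range 4,
    bitsum [mk8 1, mk8 4] k = v := by decide +kernel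

theorem bits_small64 : ∀ v : V8, InW v → v.bits &&& 64 = 0 → ∃ k ∈ List.range 8,
    bitsum [mk8 1, mk8 4, mk8 16] k = v := by decide +kernel

variable {G : Type*} [Group G] [Finite G] {z : G} {Q : Subgroup G} {π : G → V8} (D : Data z Q π)
include D

theorem exists_basis_map {a b c d : V8} (hl : Indep [a, b, c, d])
    (hW : ∀ v ∈ [a, b, c, d], InW v) :
    ∃ g, Lev D g ∧ D.act g (mk8 1) = a ∧ D.act g (mk8 4) = b ∧ D.act g (mk8 16) = c ∧
      D.act g (mk8 64) = d := by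
  have ha : a ≠ 0 := fun e => hl.2 1 (by simp) (by simp) (by simp [bitsum, e])
  obtain ⟨g₀, hg₀, e0⟩ := stage_zero D (hW a (by simp)) ha
  have h0i : g₀⁻¹ * z = z * g₀⁻¹ := (Commute.inv_left hg₀.1).eq
  have hl0 := indep_act D h0i hl
  have hW0 : ∀ v ∈ [a, b, c, d], InW (D.act g₀⁻¹ v) := fun v hv =>
    (lev_inv D hg₀).2.1 v (hW v hv)
  obtain ⟨b', hb'⟩ : ∃ b', D.act g₀⁻¹ b = b' := ⟨_, rfl⟩
  have ea : D.act g₀⁻¹ a = mk8 1 := by rw [← e0]; exact (D.act_cancel hg₀.1 _).1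
  simp only [List.map_cons, List.map_nil, ea, hb'] at hl0
  have h1 : b'.bits &&& 84 ≠ 0 := fun h => by
    obtain ⟨k, hk, e⟩ := bits_small84 b' (hb' ▸ hW0 b (by simp)) h
    rw [List.mem_range] at hk
    refine hl0.2 (k + 2) (List.mem_range.2 (by omega)) (by omega) ?_
    interval_cases k <;> simp [bitsum] at e ⊢ <;> simp [← e, add_self8]
  obtain ⟨g₁, hg₁, e1a, e1b⟩ := stage_one D (hb' ▸ hW0 b (by simp)) h1
  have h1i : g₁⁻¹ * z = z * g₁⁻¹ := (Commute.inv_left hg₁.1).eq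
  have hl1 := indep_act D h1i hl0
  have ea1 : D.act g₁⁻¹ (mk8 1) = mk8 1 := by
    conv_lhs => rw [← e1a]
    exact (D.act_cancel hg₁.1 _).1
  have eb1 : D.act g₁⁻¹ b' = mk8 4 := by rw [← e1b]; exact (D.act_cancel hg₁.1 _).1
  obtain ⟨c', hc'⟩ : ∃ c', D.act g₁⁻¹ (D.act g₀⁻¹ c) = c' := ⟨_, rfl⟩
  simp only [List.map_cons, List.map_nil, ea1, eb1, hc'] at hl1
  have hc'W : InW c' := hc' ▸ (lev_inv D hg₁).2.1 _ (hW0 c (by simp))
  have h2 : c'.bits &&& 80 ≠ 0 := fun h => by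
    obtain ⟨k, hk, e⟩ := bits_small80 c' hc'W h
    rw [List.mem_range] at hk
    refine hl1.2 (k + 4) (List.mem_range.2 (by omega)) (by omega) ?_
    interval_cases k <;> simp [bitsum] at e ⊢ <;> subst e <;> decide +kernel
  obtain ⟨g₂, hg₂, e2a, e2b, e2c⟩ := stage_two D hc'W h2
  have h2i : g₂⁻¹ * z = z * g₂⁻¹ := (Commute.inv_left hg₂.1).eq
  have hl2 := indep_act D h2i hl1
  have ea2 : D.act g₂⁻¹ (mk8 1) = mk8 1 := by
    conv_lhs => rw [← e2a]
    exact (D.act_cancel hg₂.1 _).1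
  have eb2 : D.act g₂⁻¹ (mk8 4) = mk8 4 := by
    conv_lhs => rw [← e2b]
    exact (D.act_cancel hg₂.1 _).1
  have ec2 : D.act g₂⁻¹ c' = mk8 16 := by rw [← e2c]; exact (D.act_cancel hg₂.1 _).1
  obtain ⟨d', hd'⟩ : ∃ d', D.act g₂⁻¹ (D.act g₁⁻¹ (D.act g₀⁻¹ d)) = d' := ⟨_, rfl⟩
  simp only [List.map_cons, List.map_nil, ea2, eb2, ec2, hd'] at hl2
  have hd'W : InW d' :=
    hd' ▸ (lev_inv D hg₂).2.1 _ ((lev_inv D hg₁).2.1 _ (hW0 d (by simp)))
  have h3 : d'.bits &&& 64 ≠ 0 := fun h => by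
    obtain ⟨k, hk, e⟩ := bits_small64 d' hd'W h
    rw [List.mem_range] at hk
    refine hl2.2 (k + 8) (List.mem_range.2 (by omega)) (by omega) ?_
    interval_cases k <;> simp [bitsum] at e ⊢ <;> subst e <;> decide +kernel
  obtain ⟨g₃, hg₃, e3a, e3b, e3c, e3d⟩ := stage_three D hd'W h3
  have h23 := lev_mul D hg₂ hg₃
  have h13 := lev_mul D hg₁ h23
  have eb0 : D.act g₀ b' = b := by rw [← hb']; exact (D.act_cancel hg₀.1 _).2
  have ec0 : D.act g₀ (D.act g₁ c') = c := by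
    rw [← hc', (D.act_cancel hg₁.1 _).2, (D.act_cancel hg₀.1 _).2]
  have ed0 : D.act g₀ (D.act g₁ (D.act g₂ d')) = d := by
    rw [← hd', (D.act_cancel hg₂.1 _).2, (D.act_cancel hg₁.1 _).2, (D.act_cancel hg₀.1 _).2]
  have hact : ∀ v, D.act (g₀ * (g₁ * (g₂ * g₃))) v =
      D.act g₀ (D.act g₁ (D.act g₂ (D.act g₃ v))) := fun v => by
    rw [D.act_mul hg₀.1 h13.1, D.act_mul hg₁.1 h23.1, D.act_mul hg₂.1 hg₃.1]
  refine ⟨g₀ * (g₁ * (g₂ * g₃)), lev_mul D hg₀ h13, ?_, ?_, ?_, ?_⟩ <;> rw [hact]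
  · rw [e3a, e2a, e1a, e0]
  · rw [e3b, e2b, e1b, eb0]
  · rw [e3c, e2c, ec0]
  · rw [e3d, ed0]

/-- Images of the dual basis are determined. -/
theorem lev_dual {g : G} (hg : Lev D g) {a b c d : V8} (e1 : D.act g (mk8 1) = a)
    (e2 : D.act g (mk8 4) = b) (e3 : D.act g (mk8 16) = c) (e4 : D.act g (mk8 64) = d) {f y : V8}
    (hf : InF f) (hy : InF y)
    (h1 : b8 y a = b8 f (mk8 1)) (h2 : b8 y b = b8 f (mk8 4)) (h3 : b8 y c = b8 f (mk8 16))
    (h4 : b8 y d = b8 f (mk8 64)) : D.act g f = y := by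
  have hiso := D.act_iso hg.1
  refine eq_of_add_eq_zero8 ?_
  have hback : ∀ v, b8 (D.act g f + y) (D.act g v) = xor (b8 f v) (b8 y (D.act g v)) := fun v => by
    rw [b8_add_left, hiso.polar]
  have hF := inF_add _ _ (hg.2.2 f hf) hy
  obtain ⟨x, hx⟩ : ∃ x, D.act g x = D.act g f + y :=
    ⟨D.act g⁻¹ (D.act g f + y), (D.act_cancel hg.1 _).2⟩
  have hxF : InF x := by
    have := (lev_inv D hg).2.2 _ hF
    rwa [← hx, (D.act_cancel hg.1 _).1] at this
  have : x = 0 := zero_of_orth_eW x hxF fun e he => by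
    rw [← hiso.polar, hx, hback]
    simp only [eW, List.map_cons, List.map_nil, List.mem_cons, List.not_mem_nil, or_false] at he
    rcases he with rfl | rfl | rfl | rfl
    · rw [e1, h1, Bool.xor_self]
    · rw [e2, h2, Bool.xor_self]
    · rw [e3, h3, Bool.xor_self]
    · rw [e4, h4, Bool.xor_self]
  rw [← hx, this, hiso.zero]

end CfsgLib.ConwayGolay
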