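import Cfsg.Agent.ConwayGolay.LeviBases
import Cfsg.Agent.ConwayType.RGroup

/-!
# An exponent attached to an element fixing a class, and its behaviour on a root element
-/

set_option autoImplicit false

namespace CfsgLib.ConwayGolay

open CfsgLib.ConwayType CfsgLib.LargeExtraspecial

variable {G : Type*} [Group G] [Finite G] {z s : G} {Q P : Subgroup G} {π : G → V8}

/-- The sum of the exponents `j + k + i` of an element fixing the class `v`. -/
def Psi (F : Frame z Q π P s) (v : V8) (c : G) (e : Bool) : Prop :=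
  c * z = z * c ∧ c * s = s * c ∧ ∃ (a w : G) (j k i l : Bool), a ∈ Q ∧ a * s = s * a ∧
    cls π a = v ∧ w ∈ P ∧ w * z = z * w ∧ F.ups w = v ∧
    c * a * c⁻¹ = ee z s j k * a ∧ c * w * c⁻¹ = ee z s i l * w ∧ e = xor (xor j k) i

variable (F : Frame z Q π P s)
include F

theorem psi_exp {v : V8} {c : G} {e : Bool} (h : Psi F v c e) {a w : G} (ha : a ∈ Q)
    (has : a * s = s * a) (hA : cls π a = v) (hw : w ∈ P) (hwz : w * z = z * w)
    (hU : F.ups w = v) :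
    ∃ j k i l, c * a * c⁻¹ = ee z s j k * a ∧ c * w * c⁻¹ = ee z s i l * w ∧
      e = xor (xor j k) i := by
  obtain ⟨hcz, hcs, a', w', j, k, i, l, ha', has', hA', hw', hwz', hU', e1, e2, e3⟩ := h
  have d1 : MemE z s (a * a'⁻¹) := F.memE_of_cls (mul_mem ha (inv_mem ha'))
    ((Commute.mul_left has (Commute.inv_left has')).eq)
    (by rw [F.cls_mul ha (inv_mem ha'), F.cls_inv ha', hA, hA', add_self8])
  have hwi : w'⁻¹ * z = z * w'⁻¹ := (Commute.inv_left hwz').eq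
  have d2 : MemE z s (w * w'⁻¹) := by
    refine F.memE_of_ups (mul_mem hw (inv_mem hw')) (Commute.mul_left hwz hwi).eq ?_
    rw [F.ups_mul hw hwz (inv_mem hw') hwi, hU, ← hU', ← F.ups_mul hw' hwz' (inv_mem hw') hwi,
      mul_inv_cancel, F.ups_memE (Or.inl rfl)]
  obtain ⟨x1, y1, d1'⟩ := Frame.exists_ee d1
  obtain ⟨x2, y2, d2'⟩ := Frame.exists_ee d2
  refine ⟨j, k, i, l, ?_, ?_, e3⟩
  · rw [mul_inv_eq_iff_eq_mul.1 d1']
    calc c * (ee z s x1 y1 * a') * c⁻¹ = (c * ee z s x1 y1 * c⁻¹) * (c * a' * c⁻¹) := by group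
      _ = _ := by rw [F.conj_ee _ _ hcz hcs, e1, ← mul_assoc, F.ee_mul, ← mul_assoc, F.ee_mul,
        Bool.xor_comm x1, Bool.xor_comm y1]
  · rw [mul_inv_eq_iff_eq_mul.1 d2']
    calc c * (ee z s x2 y2 * w') * c⁻¹ = (c * ee z s x2 y2 * c⁻¹) * (c * w' * c⁻¹) := by group
      _ = _ := by rw [F.conj_ee _ _ hcz hcs, e2, ← mul_assoc, F.ee_mul, ← mul_assoc, F.ee_mul,
        Bool.xor_comm x2, Bool.xor_comm y2]

theorem psi_unique {v : V8} {c : G} {e e' : Bool} (h : Psi F v c e) (h' : Psi F v c e') : e = e' := by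
  obtain ⟨-, -, a, w, j, k, i, l, ha, has, hA, hw, hwz, hU, e1, e2, e3⟩ := h
  obtain ⟨j', k', i', l', f1, f2, f3⟩ := psi_exp F h' ha has hA hw hwz hU
  obtain ⟨rfl, rfl⟩ := F.ee_mul_inj (e1.symm.trans f1)
  obtain ⟨rfl, rfl⟩ := F.ee_mul_inj (e2.symm.trans f2)
  rw [e3, f3]

theorem psi_exists {v : V8} (hv : InU v) {c : G} (hc : c * z = z * c) (hcs : c * s = s * c)
    (hfix : pU (F.data.act c v) = v) : ∃ e, Psi F v c e := by
  obtain ⟨a, w, ha, has, hw, hwz, hA, hU⟩ := F.exists_type' hv hv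
  have hci : c⁻¹ * z = z * c⁻¹ := (Commute.inv_left hc).eq
  have d1 : MemE z s (c * a * c⁻¹ * a⁻¹) := F.memE_of_cls
    (mul_mem (F.data.sub.conj_mem hc ha) (inv_mem ha))
    ((((Commute.mul_left hcs has).mul_left (Commute.inv_left hcs)).mul_left (Commute.inv_left has)).eq)
    (by rw [F.cls_mul (F.data.sub.conj_mem hc ha) (inv_mem ha), F.cls_inv ha,
      F.cls_conj hc hcs ha has, hA, hfix, add_self8])
  obtain ⟨hcw, hcwz⟩ := F.conj_mem_W hc hcs hw hwz
  have hwi : w⁻¹ * z = z * w⁻¹ := (Commute.inv_left hwz).eq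
  have d2 : MemE z s (c * w * c⁻¹ * w⁻¹) := by
    refine F.memE_of_ups (mul_mem hcw (inv_mem hw)) (Commute.mul_left hcwz hwi).eq ?_
    rw [F.ups_mul hcw hcwz (inv_mem hw) hwi, F.ups_conj hc hcs hw hwz, hU, hfix, ← hU,
      ← F.ups_mul hw hwz (inv_mem hw) hwi, mul_inv_cancel, F.ups_memE (Or.inl rfl)]
  obtain ⟨j, k, d1'⟩ := Frame.exists_ee d1
  obtain ⟨i, l, d2'⟩ := Frame.exists_ee d2
  exact ⟨_, hc, hcs, a, w, j, k, i, l, ha, has, hA, hw, hwz, hU,
    mul_inv_eq_iff_eq_mul.1 d1', mul_inv_eq_iff_eq_mul.1 d2', rfl⟩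

theorem psi_mul {v : V8} {c d : G} {e e' : Bool} (h : Psi F v c e) (h' : Psi F v d e') :
    Psi F v (c * d) (xor e e') := by
  obtain ⟨hcz, hcs, a, w, j, k, i, l, ha, has, hA, hw, hwz, hU, e1, e2, e3⟩ := h
  obtain ⟨j', k', i', l', f1, f2, f3⟩ := psi_exp F h' ha has hA hw hwz hU
  obtain ⟨hdz, hds, -⟩ := h'
  refine ⟨(Commute.mul_left hcz hdz).eq, (Commute.mul_left hcs hds).eq, a, w,
    xor j' j, xor k' k, xor i' i, xor l' l, ha, has, hA, hw, hwz, hU, ?_, ?_, ?_⟩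
  · calc c * d * a * (c * d)⁻¹ = c * (d * a * d⁻¹) * c⁻¹ := by group
      _ = (c * ee z s j' k' * c⁻¹) * (c * a * c⁻¹) := by rw [f1]; group
      _ = _ := by rw [F.conj_ee _ _ hcz hcs, e1, ← mul_assoc, F.ee_mul]
  · calc c * d * w * (c * d)⁻¹ = c * (d * w * d⁻¹) * c⁻¹ := by group
      _ = (c * ee z s i' l' * c⁻¹) * (c * w * c⁻¹) := by rw [f2]; group
      _ = _ := by rw [F.conj_ee _ _ hcz hcs, e2, ← mul_assoc, F.ee_mul]
  · rw [e3, f3]
    cases j <;> cases k <;> cases i <;> cases j' <;> cases k' <;> cases i' <;> rfl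

theorem psi_inR {v : V8} (hv : InU v) {g : G} (hg : F.InR g) : Psi F v g false := by
  obtain ⟨q, u, hq, hqs, hu, huz, rfl⟩ := F.inR_decomp hg
  obtain ⟨a, w, ha, has, hw, hwz, hA, hU⟩ := F.exists_type' hv hv
  have hqz := F.data.Q_comm hq
  have hus := F.W_comm_s hu
  refine psi_mul F (e := false) (e' := false) ⟨hqz, hqs, a, w, b8 (cls π q) v, false, b8 (cls π q) v,
    b8 (cls π q) v, ha, has, hA, hw, hwz, hU, ?_, ?_, ?_⟩ ⟨huz, hus, a, w, b8 v (F.ups u),
    b8 v (F.ups u), false, b8 (F.ups u) v, ha, has, hA, hw, hwz, hU, ?_, ?_, ?_⟩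
  · rw [← hA]; exact F.conj_QQ ha has hq hqs
  · rw [← hU]; exact (F.comm_QW hq hqs hw hwz).2
  · simp
  · rw [← hA]; exact (F.comm_QW ha has hu huz).1
  · rw [← hU]; exact F.conj_WW hw hwz hu huz
  · simp

theorem psi_conj {v : V8} {c g : G} {e : Bool} (h : Psi F v c e) (hg : g * z = z * g)
    (hgs : g * s = s * g) : Psi F (pU (F.data.act g v)) (g * c * g⁻¹) e := by
  obtain ⟨hcz, hcs, a, w, j, k, i, l, ha, has, hA, hw, hwz, hU, e1, e2, e3⟩ := h
  obtain ⟨hgw, hgwz⟩ := F.conj_mem_W hg hgs hw hwz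
  refine ⟨((Commute.mul_left hg hcz).mul_left (Commute.inv_left hg)).eq,
    ((Commute.mul_left hgs hcs).mul_left (Commute.inv_left hgs)).eq, g * a * g⁻¹, g * w * g⁻¹,
    j, k, i, l, F.data.sub.conj_mem hg ha,
    ((Commute.mul_left hgs has).mul_left (Commute.inv_left hgs)).eq,
    by rw [F.cls_conj hg hgs ha has, hA], hgw, hgwz, by rw [F.ups_conj hg hgs hw hwz, hU],
    ?_, ?_, e3⟩
  · calc g * c * g⁻¹ * (g * a * g⁻¹) * (g * c * g⁻¹)⁻¹ = g * (c * a * c⁻¹) * g⁻¹ := by group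
      _ = (g * ee z s j k * g⁻¹) * (g * a * g⁻¹) := by rw [e1]; group
      _ = _ := by rw [F.conj_ee _ _ hg hgs]
  · calc g * c * g⁻¹ * (g * w * g⁻¹) * (g * c * g⁻¹)⁻¹ = g * (c * w * c⁻¹) * g⁻¹ := by group
      _ = (g * ee z s i l * g⁻¹) * (g * w * g⁻¹) := by rw [e2]; group
      _ = _ := by rw [F.conj_ee _ _ hg hgs]

theorem psi_add {v v' : V8} {c : G} {e e' : Bool} (h : Psi F v c e) (h' : Psi F v' c e') :
    Psi F (v + v') c (xor e e') := by
  obtain ⟨hcz, hcs, a, w, j, k, i, l, ha, has, hA, hw, hwz, hU, e1, e2, e3⟩ := h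
  obtain ⟨-, -, a', w', j', k', i', l', ha', has', hA', hw', hwz', hU', f1, f2, f3⟩ := h'
  refine ⟨hcz, hcs, a * a', w * w', xor j j', xor k k', xor i i', xor l l', mul_mem ha ha',
    (Commute.mul_left has has').eq, by rw [F.cls_mul ha ha', hA, hA'], mul_mem hw hw',
    (Commute.mul_left hwz hwz').eq, by rw [F.ups_mul hw hwz hw' hwz', hU, hU'], ?_, ?_, ?_⟩
  · calc c * (a * a') * c⁻¹ = (c * a * c⁻¹) * (c * a' * c⁻¹) := by group
      _ = ee z s j k * (a * ee z s j' k') * a' := by rw [e1, f1]; group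
      _ = _ := by rw [F.ee_comm _ _ (F.data.Q_comm ha) has, ← mul_assoc, F.ee_mul, ← mul_assoc]
  · calc c * (w * w') * c⁻¹ = (c * w * c⁻¹) * (c * w' * c⁻¹) := by group
      _ = ee z s i l * (w * ee z s i' l') * w' := by rw [e2, f2]; group
      _ = _ := by rw [F.ee_comm _ _ hwz (F.W_comm_s hw), ← mul_assoc, F.ee_mul, ← mul_assoc]
  · rw [e3, f3]
    cases j <;> cases k <;> cases i <;> cases j' <;> cases k' <;> cases i' <;> rfl

theorem inR_of_same {c d : G} (hc : c * z = z * c) (hcs : c * s = s * c) (hd : d * z = z * d)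
    (hds : d * s = s * d)
    (h : ∀ u, InU u → pU (F.data.act c u) = pU (F.data.act d u)) : F.InR (c⁻¹ * d) := by
  have hci : c⁻¹ * z = z * c⁻¹ := (Commute.inv_left hc).eq
  have hcis : c⁻¹ * s = s * c⁻¹ := (Commute.inv_left hcs).eq
  refine ⟨(Commute.mul_left hci hd).eq, (Commute.mul_left hcis hds).eq, fun v hv => ?_⟩
  have id_ := F.data.act_iso hd
  have ic := F.data.act_iso hc
  have ii := F.data.act_iso hci
  rw [F.data.act_mul hci hd, ← ii.pU_map_pU (F.act_s hci hcis) (id_.orth_s0 (F.act_s hd hds) hv),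
    ← id_.pU_map_pU (F.act_s hd hds) hv, ← h (pU v) (pU_pU v), ic.pU_map_pU (F.act_s hc hcs) hv,
    ii.pU_map_pU (F.act_s hci hcis) (ic.orth_s0 (F.act_s hc hcs) hv), (F.data.act_cancel hc v).1]

/-- An element exchanging two classes which are not orthogonal moves the lift of their sum. -/
theorem psi_swap {v v' : V8} (hv : InU v) (hv' : InU v') (hb : b8 v v' = true) {c : G}
    (hc : c * z = z * c) (hcs : c * s = s * c) (h1 : pU (F.data.act c v) = v')
    (h2 : pU (F.data.act c v') = v)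
    (hsq : ∀ u, InU u → pU (F.data.act c (pU (F.data.act c u))) = u) :
    Psi F (v + v') c true := by
  obtain ⟨a, w, ha, has, hw, hwz, hA, hU⟩ := F.exists_type' hv hv
  obtain ⟨a', ha'⟩ : ∃ a', a' = c * a * c⁻¹ := ⟨_, rfl⟩
  obtain ⟨w', hw'⟩ : ∃ w', w' = c * w * c⁻¹ := ⟨_, rfl⟩
  obtain ⟨hwP', hwz'⟩ := hw' ▸ F.conj_mem_W hc hcs hw hwz
  have ha'Q : a' ∈ Q := ha' ▸ F.data.sub.conj_mem hc ha
  have has' : a' * s = s * a' := ha' ▸ ((Commute.mul_left hcs has).mul_left (Commute.inv_left hcs)).eq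
  have hA' : cls π a' = v' := by rw [ha', F.cls_conj hc hcs ha has, hA, h1]
  have hU' : F.ups w' = v' := by rw [hw', F.ups_conj hc hcs hw hwz, hU, h1]
  have hR : F.InR (c * c) := by
    refine ⟨(Commute.mul_left hc hc).eq, (Commute.mul_left hcs hcs).eq, fun x hx => ?_⟩
    have ic := F.data.act_iso hc
    rw [F.data.act_mul hc hc, ← ic.pU_map_pU (F.act_s hc hcs) (ic.orth_s0 (F.act_s hc hcs) hx),
      ← ic.pU_map_pU (F.act_s hc hcs) hx]
    exact hsq _ (pU_pU x)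
  obtain ⟨j, k, i, l, e1, e2, e3⟩ := psi_exp F (psi_inR F hv hR) ha has hA hw hwz hU
  have e1' : c * a' * c⁻¹ = ee z s j k * a := by rw [← e1, ha']; group
  have e2' : c * w' * c⁻¹ = ee z s i l * w := by rw [← e2, hw']; group
  have c1 := F.conj_QQ ha has ha'Q has'
  have c2 := F.conj_WW hw hwz hwP' hwz'
  rw [hA, hA', b8_comm, hb] at c1
  rw [hU, hU', b8_comm, hb] at c2
  refine ⟨hc, hcs, a * a', w * w', xor (!j) false, k, i, xor (!l) false, mul_mem ha ha'Q,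
    (Commute.mul_left has has').eq, by rw [F.cls_mul ha ha'Q, hA, hA'], mul_mem hw hwP',
    (Commute.mul_left hwz hwz').eq, by rw [F.ups_mul hw hwz hwP' hwz', hU, hU'], ?_, ?_, ?_⟩
  · calc c * (a * a') * c⁻¹ = a' * (c * a' * c⁻¹) := by rw [ha']; group
      _ = (a' * ee z s j k * a'⁻¹) * (a' * a * a'⁻¹) * a' := by rw [e1']; group
      _ = _ := by
        rw [F.conj_ee _ _ (F.data.Q_comm ha'Q) has', c1, ← mul_assoc, F.ee_mul, Bool.xor_true,
          Bool.xor_false, Bool.xor_false, mul_assoc]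
  · calc c * (w * w') * c⁻¹ = w' * (c * w' * c⁻¹) := by rw [hw']; group
      _ = (w' * ee z s i l * w'⁻¹) * (w' * w * w'⁻¹) * w' := by rw [e2']; group
      _ = _ := by
        rw [F.conj_ee _ _ hwz' (F.W_comm_s hwP'), c2, ← mul_assoc, F.ee_mul, Bool.xor_true,
          Bool.xor_false, Bool.xor_false, mul_assoc]
  · revert e3
    cases j <;> cases k <;> cases i <;> simp

end CfsgLib.ConwayGolay
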