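import Cfsg.Agent.MTwentyFourUnique.Endgame
import Cfsg.Agent.FusionEssential.Aut

/-!
# A group of the order of M24 with a faithful action on a space of order `2 ^ 11`
-/

set_option autoImplicit false

namespace CfsgLib.ConwayGolay

open Matrix

/-- The quotient of the normalizer of a self-centralizing elementary subgroup is a matrix group. -/
theorem exists_rho {G : Type*} [Group G] [Finite G] (A : Subgroup G)
    (hel : Cfsg.IsElementaryAbelian 2 A) (hcard : Nat.card A = 2 ^ 11)
    (hC : Subgroup.centralizer (A : Set G) ≤ A) :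
    ∃ _ : (A.subgroupOf (Subgroup.normalizer (A : Set G))).Normal,
      ∃ rho : ↥(Subgroup.normalizer (A : Set G)) ⧸ A.subgroupOf (Subgroup.normalizer (A : Set G)) →*
        GL (Fin 11) (ZMod 2), Function.Injective rho := by
  have : Fact (Nat.Prime 2) := ⟨Nat.prime_two⟩
  haveI := hel.1
  have hker : A.normalizerMonoidHom.ker = A.subgroupOf (Subgroup.normalizer (A : Set G)) := by
    rw [Subgroup.normalizerMonoidHom_ker]
    ext n
    refine ⟨fun h => hC h, fun h => Subgroup.mem_centralizer_iff.2 fun a ha => ?_⟩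
    exact congrArg Subtype.val (hel.1.is_comm.comm (⟨a, ha⟩ : A) ⟨n, h⟩)
  have hnorm : (A.subgroupOf (Subgroup.normalizer (A : Set G))).Normal :=
    hker ▸ MonoidHom.normal_ker _
  refine ⟨hnorm, ?_⟩
  obtain ⟨f⟩ := CfsgLib.FusionEssential.exists_mulEquiv_fin_of_elementary (H := A)
    (fun a b => hel.1.is_comm.comm a b) (fun x => Subtype.ext (hel.2 x x.2)) hcard
  let Φ : MulAut A →* GL (Fin 11) (ZMod 2) := (CfsgLib.FusionEssential.autMatrix f).toHomUnits
  have hΦ : Function.Injective Φ := fun x y h =>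
    CfsgLib.FusionEssential.autMatrix_injective f (congrArg Units.val h)
  let ψ := Φ.comp A.normalizerMonoidHom
  have hψ : ψ.ker = A.subgroupOf (Subgroup.normalizer (A : Set G)) := by
    rw [← hker]; ext n; exact ⟨fun h => hΦ (h.trans (map_one Φ).symm), fun h => (congrArg Φ h).trans (map_one Φ)⟩
  refine ⟨QuotientGroup.lift _ ψ hψ.ge, (injective_iff_map_eq_one _).2 fun x hx => ?_⟩
  obtain ⟨n, rfl⟩ := QuotientGroup.mk_surjective x
  exact (QuotientGroup.eq_one_iff n).2 (hψ.le hx)

section Fixed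

variable {M : Type*} [Group M] (rho : M →* GL (Fin 11) (ZMod 2))

/-- The action on column vectors. -/
def mv (x : M) (v : Fin 11 → ZMod 2) : Fin 11 → ZMod 2 :=
  (rho x : Matrix (Fin 11) (Fin 11) (ZMod 2)) *ᵥ v

theorem mv_one (v : Fin 11 → ZMod 2) : mv rho 1 v = v := by simp [mv]

theorem mv_mul (x y : M) (v : Fin 11 → ZMod 2) : mv rho (x * y) v = mv rho x (mv rho y v) := by
  simp [mv, Matrix.mulVec_mulVec]

theorem mv_pow (x : M) {v : Fin 11 → ZMod 2} (h : mv rho x v = v) : ∀ n : ℕ, mv rho (x ^ n) v = v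
  | 0 => by rw [pow_zero, mv_one]
  | n + 1 => by rw [pow_succ, mv_mul, h, mv_pow x h n]

/-- The fixed vectors. -/
def fixVec (x : M) : AddSubgroup (Fin 11 → ZMod 2) where
  carrier := {v | mv rho x v = v}
  zero_mem' := by simp [mv]
  add_mem' := fun {u v} hu hv => by
    simp only [Set.mem_ofPred_eq, mv, Matrix.mulVec_add] at *
    rw [hu, hv]
  neg_mem' := fun {u} hu => by
    simp only [Set.mem_ofPred_eq, mv, Matrix.mulVec_neg] at *
    rw [hu]

theorem card_vec : Nat.card (Fin 11 → ZMod 2) = 2 ^ 11 := by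
  rw [Nat.card_fun, Nat.card_zmod, Nat.card_eq_fintype_card, Fintype.card_fin]

theorem fixVec_pow (x : M) : ∃ d ≤ 11, Nat.card (fixVec rho x) = 2 ^ d :=
  (Nat.dvd_prime_pow Nat.prime_two).1 (card_vec ▸ (fixVec rho x).card_addSubgroup_dvd_card)

theorem eq_one_of_full (hrho : Function.Injective rho) {x : M}
    (h : Nat.card (fixVec rho x) = 2 ^ 11) : x = 1 := by
  have htop : fixVec rho x = ⊤ := AddSubgroup.eq_top_of_card_eq _ (h.trans card_vec.symm)
  refine hrho (Units.ext ?_)
  rw [map_one, Units.val_one]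
  refine Matrix.ext_iff_mulVec.2 fun v => ?_
  rw [Matrix.one_mulVec]
  exact (htop.ge (AddSubgroup.mem_top v) : v ∈ fixVec rho x)

/-- An element of prime order permuting a set has fixed points congruent to its size. -/
theorem fix_modEq {p : ℕ} [Fact p.Prime] {x : M} (hx : x ^ p = 1) (S : Set (Fin 11 → ZMod 2))
    (hS : ∀ v ∈ S, mv rho x v ∈ S) :
    Nat.card S ≡ Nat.card {v : Fin 11 → ZMod 2 // v ∈ S ∧ mv rho x v = v} [MOD p] := by
  classical
  let f : Function.End S := fun v => ⟨mv rho x v.1, hS v.1 v.2⟩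
  have hn : ∀ (n : ℕ) (v : S), ((f ^ n) v).1 = mv rho (x ^ n) v.1 := by
    intro n
    induction n with
    | zero => intro v; rw [pow_zero, pow_zero, mv_one]; rfl
    | succ n ih => intro v; rw [pow_succ, pow_succ, mv_mul]; exact ih (f v)
  have hp : f ^ p ^ 1 = 1 := funext fun v => Subtype.ext (by rw [pow_one, hn, hx, mv_one]; rfl)
  have h := Equiv.Perm.card_fixedPoints_modEq hp
  rw [← Nat.card_eq_fintype_card, ← Nat.card_eq_fintype_card] at h
  refine h.trans (congrArg (· % p) (Nat.card_congr ?_))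
  exact {
    toFun := fun v => ⟨v.1.1, v.1.2, congrArg Subtype.val v.2⟩
    invFun := fun v => ⟨⟨v.1, v.2.1⟩, Subtype.ext v.2.2⟩
    left_inv := fun v => rfl
    right_inv := fun v => rfl }

theorem fix_card_modEq {p : ℕ} [Fact p.Prime] {x : M} (hx : x ^ p = 1) :
    2 ^ 11 ≡ Nat.card (fixVec rho x) [MOD p] := by
  have h := fix_modEq rho hx Set.univ (fun _ _ => trivial)
  rw [Nat.card_univ, card_vec] at h
  exact h.trans (congrArg (· % p) (Nat.card_congr (Equiv.subtypeEquivRight fun _ =>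
    ⟨fun h => h.2, fun h => ⟨trivial, h⟩⟩)))

theorem fix_invariant {x y : M} (h : x * y = y * x) {v : Fin 11 → ZMod 2} (hv : v ∈ fixVec rho x) :
    mv rho y v ∈ fixVec rho x := by
  show mv rho x (mv rho y v) = mv rho y v
  rw [← mv_mul, h, mv_mul, show mv rho x v = v from hv]

theorem no_fix23 (hrho : Function.Injective rho) {a : M} (ha : orderOf a = 23)
    {v : Fin 11 → ZMod 2} (hv : mv rho a v = v) : v = 0 := by
  have : Fact (Nat.Prime 23) := ⟨by norm_num⟩
  have h := fix_card_modEq rho (x := a) (p := 23) (ha ▸ pow_orderOf_eq_one a)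
  obtain ⟨d, hd, hcard⟩ := fixVec_pow rho a
  rw [hcard] at h
  have key : ∀ d ≤ 11, 2 ^ 11 ≡ 2 ^ d [MOD 23] → d = 0 ∨ d = 11 := by decide
  rcases key d hd h with rfl | rfl
  · have := AddSubgroup.eq_bot_of_card_eq _ hcard
    exact (this ▸ hv : v ∈ (⊥ : AddSubgroup (Fin 11 → ZMod 2)))
  · exact absurd ha (by rw [eq_one_of_full rho hrho hcard, orderOf_one]; norm_num)

end Fixed

end CfsgLib.ConwayGolay
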