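import Cfsg.Agent.ConwayGolay.Abelian

/-!
# The stabiliser of the subspace in `C(z)`: its order, and the normalizer
-/

set_option autoImplicit false

namespace CfsgLib.ConwayGolay

open CfsgLib.ConwayType CfsgLib.LargeExtraspecial

theorem stage_counts : (Finset.univ.filter fun v : V8 => InW v ∧ v ≠ 0).card = 15 ∧
    (Finset.univ.filter fun v : V8 => InW v ∧ v.bits &&& 84 ≠ 0).card = 14 ∧
    (Finset.univ.filter fun v : V8 => InW v ∧ v.bits &&& 80 ≠ 0).card = 12 ∧
    (Finset.univ.filter fun v : V8 => InW v ∧ v.bits &&& 64 ≠ 0).card = 8 := by decide +kernel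

theorem span_excl : mk8 1 ≠ 0 ∧
    (∀ k ∈ List.range 2, bitsum [mk8 1] k ≠ mk8 4) ∧
    (∀ k ∈ List.range 4, bitsum [mk8 1, mk8 4] k ≠ mk8 16) ∧
    (∀ k ∈ List.range 8, bitsum [mk8 1, mk8 4, mk8 16] k ≠ mk8 64) ∧
    (mk8 4).bits &&& 84 ≠ 0 ∧ (mk8 16).bits &&& 80 ≠ 0 ∧ (mk8 64).bits &&& 64 ≠ 0 := by decide +kernel

variable {G : Type*} [Group G] [Finite G] {z s : G} {Q P : Subgroup G} {π : G → V8}

section

variable (D : Data z Q π)
include D

/-- The elements of `C(z)` stabilising the subspace and fixing the members of a list. -/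
def stW (L : List V8) : Subgroup G where
  carrier := {c | c * z = z * c ∧ (∀ v, InW v → InW (D.act c v)) ∧ ∀ e ∈ L, D.act c e = e}
  one_mem' := ⟨by simp, fun v hv => by rwa [D.act_one], fun e _ => D.act_one e⟩
  mul_mem' := fun {c d} hc hd => ⟨(Commute.mul_left hc.1 hd.1).eq,
    fun v hv => by rw [D.act_mul hc.1 hd.1]; exact hc.2.1 _ (hd.2.1 v hv),
    fun e he => by rw [D.act_mul hc.1 hd.1, hd.2.2 e he, hc.2.2 e he]⟩
  inv_mem' := fun {c} hc => by
    classical
    refine ⟨(Commute.inv_left hc.1).eq, fun v hv => ?_, fun e he => ?_⟩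
    · have himg : (Finset.univ.filter fun v : V8 => InW v).image (D.act c) =
          Finset.univ.filter fun v : V8 => InW v := by
        refine Finset.eq_of_subset_of_card_le (fun u hu => ?_)
          (le_of_eq (Finset.card_image_of_injective _ fun u u' h => ?_).symm)
        · obtain ⟨u, hu', rfl⟩ := Finset.mem_image.1 hu
          exact Finset.mem_filter.2 ⟨Finset.mem_univ _, hc.2.1 u (Finset.mem_filter.1 hu').2⟩
        · rw [← (D.act_cancel hc.1 u).1, h, (D.act_cancel hc.1 u').1]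
      obtain ⟨u, hu, rfl⟩ := Finset.mem_image.1
        (himg.ge (Finset.mem_filter.2 ⟨Finset.mem_univ v, hv⟩))
      rw [(D.act_cancel hc.1 u).1]
      exact (Finset.mem_filter.1 hu).2
    · conv_lhs => rw [← hc.2.2 e he]
      exact (D.act_cancel hc.1 e).1

omit [Finite G] in
theorem lev_stW {g : G} (hg : Lev D g) {L : List V8} (hL : ∀ e ∈ L, D.act g e = e)
    [Finite G] : g ∈ stW D L :=
  ⟨hg.1, hg.2.1, hL⟩

theorem stW_mono {L L' : List V8} (h : L ⊆ L') : stW D L' ≤ stW D L :=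
  fun _ hc => ⟨hc.1, hc.2.1, fun e he => hc.2.2 e (h he)⟩

theorem mem_stW_of_mem_Q {q : G} (hq : q ∈ Q) (L : List V8) : q ∈ stW D L :=
  ⟨D.Q_comm hq, fun v hv => by rwa [D.act_of_mem hq], fun e _ => D.act_of_mem hq e⟩

theorem stW_conj_A {g a : G} {L : List V8} (hg : g ∈ stW D L) (ha : a ∈ theA D) :
    g * a * g⁻¹ ∈ theA D :=
  conj_mem_theA D hg.1 hg.2.1 ha

theorem mem_normalizer_of_conj (A : Subgroup G) {g : G} (h : ∀ a ∈ A, g * a * g⁻¹ ∈ A) :
    g ∈ Subgroup.normalizer (A : Set G) := by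
  have hle : A.map (MulAut.conj g).toMonoidHom ≤ A := by
    rintro _ ⟨a, ha, rfl⟩
    exact h a ha
  have he : A.map (MulAut.conj g).toMonoidHom = A := Subgroup.eq_of_le_of_card_ge hle
    (by rw [Subgroup.card_map_of_injective (MulAut.conj g).injective])
  refine Subgroup.mem_normalizer_iff.2 fun a => ⟨h a, fun ha => ?_⟩
  obtain ⟨b, hb, e⟩ := he.ge ha
  have : g * b * g⁻¹ = g * a * g⁻¹ := e
  rwa [← mul_left_cancel (mul_right_cancel this)]

theorem normalizer_inf_eq :
    Subgroup.normalizer (theA D : Set G) ⊓ Subgroup.centralizer ({z} : Set G) = stW D [] := by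
  refine le_antisymm (fun c hc => ?_) (fun c hc => ⟨mem_normalizer_of_conj D _ fun a ha =>
    stW_conj_A D hc ha, Subgroup.mem_centralizer_singleton_iff.2 hc.1⟩)
  have hcz : c * z = z * c := Subgroup.mem_centralizer_singleton_iff.1 hc.2
  refine ⟨hcz, fun v hv => ?_, by simp⟩
  obtain ⟨x, hx, rfl⟩ := D.surj v
  rw [D.act_π hcz hx]
  exact (mem_wTil_of_mem_Q D ((Subgroup.mem_normalizer_iff.1 hc.1 x).1 (wTil_le D ⟨hx, hv⟩))
    (D.sub.conj_mem hcz hx)).2

/-- One step of the stabiliser chain. -/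
theorem stab_step (L : List V8) (e : V8) (O : Finset V8)
    (hO : ∀ c ∈ stW D L, D.act c e ∈ O)
    (hreach : ∀ v ∈ O, ∃ c ∈ stW D L, D.act c e = v) :
    Nat.card (stW D L) = O.card * Nat.card (stW D (L ++ [e])) := by
  classical
  choose g hg hge using hreach
  have hmem : ∀ {c : G}, c ∈ stW D (L ++ [e]) → c ∈ stW D L := fun hc =>
    stW_mono D (List.subset_append_left L [e]) hc
  let f : {v : V8 // v ∈ O} × stW D (L ++ [e]) → stW D L := fun p =>
    ⟨g p.1.1 p.1.2 * p.2.1, mul_mem (hg _ _) (hmem p.2.2)⟩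
  have hf : Function.Bijective f := by
    refine ⟨fun ⟨v, h⟩ ⟨v', h'⟩ he => ?_, fun ⟨c, hc⟩ => ?_⟩
    · have he' : g v.1 v.2 * (h : G) = g v'.1 v'.2 * (h' : G) := congrArg Subtype.val he
      have h1 : ∀ (v : {v : V8 // v ∈ O}) (h : stW D (L ++ [e])),
          D.act (g v.1 v.2 * (h : G)) e = v.1 := fun v h => by
        rw [D.act_mul (hg _ _).1 h.2.1, h.2.2.2 e (by simp), hge]
      have hv : v = v' := Subtype.ext (by rw [← h1 v h, he', h1 v' h'])
      subst hv
      rw [Subtype.ext (mul_left_cancel he')]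
    · set v := D.act c e with hv
      have hvO : v ∈ O := hO c hc
      refine ⟨(⟨v, hvO⟩, ⟨(g v hvO)⁻¹ * c, ?_⟩), Subtype.ext (mul_inv_cancel_left _ c)⟩
      have hm := mul_mem (inv_mem (hg v hvO)) hc
      refine ⟨hm.1, hm.2.1, fun x hx => ?_⟩
      rcases List.mem_append.1 hx with hx | hx
      · exact hm.2.2 x hx
      · rw [List.mem_singleton.1 hx, D.act_mul (Commute.inv_left (hg v hvO).1).eq hc.1, ← hv]
        exact (congrArg (D.act (g v hvO)⁻¹) (hge v hvO).symm).trans (D.act_cancel (hg v hvO).1 e).1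
  rw [← Nat.card_congr (Equiv.ofBijective f hf), Nat.card_prod, Nat.card_eq_finsetCard]

omit [Finite G] in
theorem fixes_span {c : G} (hc : c * z = z * c) {L : List V8} (h : ∀ e ∈ L, D.act c e = e) (n : ℕ) :
    D.act c (bitsum L n) = bitsum L n := by
  rw [← bitsum_map (D.act_iso hc).add (D.act_iso hc).zero]
  congr 1
  conv_rhs => rw [← List.map_id L]
  exact List.map_congr_left h

omit [Finite G] in
theorem not_in_span [Finite G] {c : G} (hc : c * z = z * c) {L : List V8} (h : ∀ e ∈ L, D.act c e = e)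
    {e : V8} {n : ℕ} (hne : bitsum L n ≠ e) : D.act c e ≠ bitsum L n := fun he => hne (by
  rw [← fixes_span D hc h n] at he
  rw [← (D.act_cancel hc e).1, he, (D.act_cancel hc _).1])

theorem card_stW : Nat.card (stW D []) = 20160 * Nat.card (stW D eW) := by
  classical
  obtain ⟨n0, n1, n2, n3⟩ := stage_counts
  obtain ⟨x0, x1, x2, x3, b1, b2, b3⟩ := span_excl
  have s0' := stab_step D [] (mk8 1) (Finset.univ.filter fun v : V8 => InW v ∧ v ≠ 0)
    (fun c hc => Finset.mem_filter.2 ⟨Finset.mem_univ _, hc.2.1 _ (by decide), fun h => x0 (by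
      rw [← (D.act_cancel hc.1 (mk8 1)).1, h, (D.act_iso (Commute.inv_left hc.1).eq).zero])⟩)
    (fun v hv => by
      obtain ⟨g, hg, e⟩ := stage_zero D (Finset.mem_filter.1 hv).2.1 (Finset.mem_filter.1 hv).2.2
      exact ⟨g, lev_stW D hg (by simp), e⟩)
  have s1' := stab_step D [mk8 1] (mk8 4)
    (Finset.univ.filter fun v : V8 => InW v ∧ v.bits &&& 84 ≠ 0)
    (fun c hc => Finset.mem_filter.2 ⟨Finset.mem_univ _, hc.2.1 _ (by decide), fun h => by
      obtain ⟨k, hk, e⟩ := bits_small84 _ (hc.2.1 _ (by decide)) h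
      exact not_in_span D hc.1 hc.2.2 (x1 k hk) e.symm⟩)
    (fun v hv => by
      obtain ⟨g, hg, e1, e⟩ := stage_one D (Finset.mem_filter.1 hv).2.1 (Finset.mem_filter.1 hv).2.2
      exact ⟨g, lev_stW D hg (by simp [e1]), e⟩)
  have s2' := stab_step D [mk8 1, mk8 4] (mk8 16)
    (Finset.univ.filter fun v : V8 => InW v ∧ v.bits &&& 80 ≠ 0)
    (fun c hc => Finset.mem_filter.2 ⟨Finset.mem_univ _, hc.2.1 _ (by decide), fun h => by
      obtain ⟨k, hk, e⟩ := bits_small80 _ (hc.2.1 _ (by decide)) h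
      exact not_in_span D hc.1 hc.2.2 (x2 k hk) e.symm⟩)
    (fun v hv => by
      obtain ⟨g, hg, e1, e2, e⟩ := stage_two D (Finset.mem_filter.1 hv).2.1 (Finset.mem_filter.1 hv).2.2
      exact ⟨g, lev_stW D hg (by simp [e1, e2]), e⟩)
  have s3' := stab_step D [mk8 1, mk8 4, mk8 16] (mk8 64)
    (Finset.univ.filter fun v : V8 => InW v ∧ v.bits &&& 64 ≠ 0)
    (fun c hc => Finset.mem_filter.2 ⟨Finset.mem_univ _, hc.2.1 _ (by decide), fun h => by
      obtain ⟨k, hk, e⟩ := bits_small64 _ (hc.2.1 _ (by decide)) h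
      exact not_in_span D hc.1 hc.2.2 (x3 k hk) e.symm⟩)
    (fun v hv => by
      obtain ⟨g, hg, e1, e2, e3, e⟩ := stage_three D (Finset.mem_filter.1 hv).2.1 (Finset.mem_filter.1 hv).2.2
      exact ⟨g, lev_stW D hg (by simp [e1, e2, e3]), e⟩)
  simp only [List.nil_append, List.cons_append] at s0' s1' s2' s3'
  rw [s0', s1', s2', s3', n0, n1, n2, n3, show eW = [mk8 1, mk8 4, mk8 16, mk8 64] from rfl]
  omega

end

variable (F : Frame z Q π P s)
include F

theorem card_stW_eW (hgood : Good F) : Nat.card (stW F.data eW) = 32768 := by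
  classical
  obtain ⟨S, -, -, -, -, hsurj⟩ := exists_gens F hgood
  choose r hrA hrc using fun k : Fin 64 => hsurj k.1 k.2
  have hrW : ∀ k, r k ∈ stW F.data eW := fun k =>
    ⟨theA_comm_z _ (hrA k), fun v hv => by rw [act_theA _ (hrA k) hv]; exact hv,
      fun e he => act_theA _ (hrA k) (eW_mem e he).1⟩
  let f : Q × Fin 64 → stW F.data eW := fun p =>
    ⟨p.1.1 * r p.2, mul_mem (mem_stW_of_mem_Q _ p.1.2 _) (hrW _)⟩
  have hcode : ∀ p : Q × Fin 64, code (F.data.act (p.1.1 * r p.2)) = p.2.1 := fun p => by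
    rw [← hrc p.2, acode]
    congr 1
    funext v
    rw [F.data.act_mul (F.data.Q_comm p.1.2) (hrW _).1, F.data.act_of_mem p.1.2]
  have hf : Function.Bijective f := by
    refine ⟨fun p p' h => ?_, fun ⟨c, hc⟩ => ?_⟩
    · have h' : p.1.1 * r p.2 = p'.1.1 * r p'.2 := congrArg Subtype.val h
      have h2 : p.2 = p'.2 := Fin.ext (by rw [← hcode p, h', hcode p'])
      rw [h2] at h'
      exact Prod.ext (Subtype.ext (mul_right_cancel h')) h2
    · obtain ⟨q, hq, hqc⟩ := exists_mem_theA F.data hc.1 fun v hv => by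
        obtain ⟨k, -, rfl⟩ := inW_cases v hv
        exact fixes_span F.data hc.1 hc.2.2 k
      have hk : acode F.data (q * c) < 64 := code_lt _
      have hx := inv_mul_mem_wTil F.data (hrA ⟨_, hk⟩) hqc (hrc ⟨_, hk⟩)
      have hx' : r ⟨_, hk⟩ * ((r ⟨_, hk⟩)⁻¹ * (q * c)) * (r ⟨_, hk⟩)⁻¹ =
          (r ⟨_, hk⟩)⁻¹ * (q * c) := mul_inv_eq_iff_eq_mul.2 (wTil_comm F hx (hrA _)).symm
      refine ⟨(⟨q⁻¹ * ((r ⟨_, hk⟩)⁻¹ * (q * c)), mul_mem (inv_mem hq) hx.1⟩, ⟨_, hk⟩),
        Subtype.ext ?_⟩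
      show q⁻¹ * ((r ⟨_, hk⟩)⁻¹ * (q * c)) * r ⟨_, hk⟩ = c
      rw [← hx']
      group
  rw [← Nat.card_congr (Equiv.ofBijective f hf), Nat.card_prod, F.data.card, Nat.card_eq_fintype_card,
    Fintype.card_fin]

theorem card_normalizer_inf (hgood : Good F) :
    Nat.card ↥(Subgroup.normalizer (theA F.data : Set G) ⊓ Subgroup.centralizer ({z} : Set G)) =
      660602880 := by
  rw [normalizer_inf_eq, card_stW, card_stW_eW F hgood]

end CfsgLib.ConwayGolay
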