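import Cfsg.Agent.ConwayGolay.Family
import Cfsg.Agent.ConwayGolay.Code

/-!
# The subgroup of order `2 ^ 11`
-/

set_option autoImplicit false

namespace CfsgLib.ConwayGolay

open CfsgLib.ConwayType CfsgLib.LargeExtraspecial

variable {G : Type*} [Group G] {z s : G} {Q P : Subgroup G} {π : G → V8}

/-- The preimage in `Q` of the standard maximal totally singular subspace. -/
def wTil (D : Data z Q π) : Subgroup G where
  carrier := {x | x ∈ Q ∧ InW (π x)}
  one_mem' := ⟨one_mem Q, by rw [D.π_one]; exact inW_zero.1⟩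
  mul_mem' := fun {x y} hx hy => ⟨mul_mem hx.1 hy.1, by
    rw [D.map_mul x hx.1 y hy.1]; exact inW_add _ _ hx.2 hy.2⟩
  inv_mem' := fun {x} hx => ⟨inv_mem hx.1, by rw [D.π_inv hx.1]; exact hx.2⟩

/-- Its centralizer. -/
def theA (D : Data z Q π) : Subgroup G := Subgroup.centralizer (wTil D : Set G)

section

variable (D : Data z Q π)
include D

theorem mem_theA {a : G} : a ∈ theA D ↔ ∀ x ∈ Q, InW (π x) → x * a = a * x :=
  ⟨fun h x hx hxW => Subgroup.mem_centralizer_iff.1 h x ⟨hx, hxW⟩,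
    fun h => Subgroup.mem_centralizer_iff.2 fun x hx => h x hx.1 hx.2⟩

theorem z_mem_wTil : z ∈ wTil D := ⟨D.sub.z_mem, by rw [D.π_z]; exact inW_zero.1⟩

theorem theA_comm_z {a : G} (ha : a ∈ theA D) : a * z = z * a :=
  ((mem_theA D).1 ha z D.sub.z_mem (z_mem_wTil D).2).symm

theorem wTil_le : wTil D ≤ theA D := fun x hx => (mem_theA D).2 fun y hy hyW =>
  (D.commute_iff hy hx.1).2 (inW_orth _ hyW _ hx.2)

theorem wTil_sq {x : G} (hx : x ∈ wTil D) : x * x = 1 := (D.sq x hx.1).2 (inW_q _ hx.2)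

theorem act_theA {a : G} (ha : a ∈ theA D) {v : V8} (hv : InW v) : D.act a v = v := by
  obtain ⟨x, hx, rfl⟩ := D.surj v
  rw [D.act_π (theA_comm_z D ha) hx, ← (mem_theA D).1 ha x hx hv, mul_inv_cancel_right]

theorem mem_wTil_of_mem_Q {a : G} (ha : a ∈ theA D) (haQ : a ∈ Q) : a ∈ wTil D := by
  refine ⟨haQ, inW_of_orth _ fun e he => ?_⟩
  obtain ⟨x, hx, rfl⟩ := D.surj e
  rw [b8_comm]
  exact (D.commute_iff hx haQ).1 ((mem_theA D).1 ha x hx (eW_mem _ he).1)

/-- It is enough to commute with the lifts of a basis. -/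
theorem mem_theA_of_basis {a : G} (haz : a * z = z * a)
    (h : ∀ e ∈ eW, ∀ x ∈ Q, π x = e → x * a = a * x) : a ∈ theA D := by
  refine (mem_theA D).2 fun x hx hxW => ?_
  have hall : ∀ n, ∀ x ∈ Q, π x = bitsum eW n → x * a = a * x := by
    refine forall_bitsum (p := fun v => ∀ x ∈ Q, π x = v → x * a = a * x) ?_ ?_ eW h
    · intro x hx hx0
      rcases D.mem_of_π_zero hx hx0 with rfl | rfl
      · simp
      · exact haz.symm
    · intro u v hu hv x hx hxe
      obtain ⟨y, hy, rfl⟩ := D.surj u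
      have hy' : π (y⁻¹ * x) = v := by
        rw [D.map_mul _ (inv_mem hy) x hx, D.π_inv hy, hxe, ← add_assoc, add_self8, zero_add]
      have := (Commute.mul_left (hu y hy rfl) (hv _ (mul_mem (inv_mem hy) hx) hy')).eq
      rwa [mul_inv_cancel_left] at this
  obtain ⟨k, -, hk⟩ := inW_cases _ hxW
  exact hall k x hx hk.symm

theorem functional_table : ∀ b1 b2 b3 b4 : Bool,
    b8 (sm b1 (mk8 2) + sm b2 (mk8 8) + sm b3 (mk8 32) + sm b4 (mk8 128)) (mk8 1) = b1 ∧
    b8 (sm b1 (mk8 2) + sm b2 (mk8 8) + sm b3 (mk8 32) + sm b4 (mk8 128)) (mk8 4) = b2 ∧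
    b8 (sm b1 (mk8 2) + sm b2 (mk8 8) + sm b3 (mk8 32) + sm b4 (mk8 128)) (mk8 16) = b3 ∧
    b8 (sm b1 (mk8 2) + sm b2 (mk8 8) + sm b3 (mk8 32) + sm b4 (mk8 128)) (mk8 64) = b4 := by
  decide +kernel

/-- An element fixing the subspace pointwise can be corrected into the centralizer. -/
theorem exists_mem_theA {c : G} (hc : c * z = z * c) (h : ∀ v, InW v → D.act c v = v) :
    ∃ q ∈ Q, q * c ∈ theA D := by
  classical
  let ε : V8 → Bool := fun v => decide (c * D.sec v * c⁻¹ ≠ D.sec v)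
  obtain ⟨q, hq, hqπ⟩ := D.surj (sm (ε (mk8 1)) (mk8 2) + sm (ε (mk8 4)) (mk8 8) +
    sm (ε (mk8 16)) (mk8 32) + sm (ε (mk8 64)) (mk8 128))
  obtain ⟨t1, t4, t16, t64⟩ := functional_table D (ε (mk8 1)) (ε (mk8 4)) (ε (mk8 16)) (ε (mk8 64))
  rw [← hqπ] at t1 t4 t16 t64
  have hqz := D.Q_comm hq
  refine ⟨q, hq, mem_theA_of_basis D (Commute.mul_left hqz hc).eq fun e he x hx hxe => ?_⟩
  have hqe : b8 (π q) e = ε e := by
    simp only [eW, List.map_cons, List.map_nil, List.mem_cons, List.not_mem_nil, or_false] at he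
    rcases he with rfl | rfl | rfl | rfl <;> assumption
  have hy := D.sec_mem e
  -- the lift `sec e` is fixed
  have hfix : q * c * D.sec e * (q * c)⁻¹ = D.sec e := by
    rw [show q * c * D.sec e * (q * c)⁻¹ = q * (c * D.sec e * c⁻¹) * q⁻¹ by group]
    have hπc : π (D.sec e) = π (c * D.sec e * c⁻¹) := by
      rw [← D.act_π hc hy, D.π_sec, h e (eW_mem e he).1]
    by_cases hce : c * D.sec e * c⁻¹ = D.sec e
    · rw [hce, mul_inv_eq_iff_eq_mul]
      refine (D.commute_iff hq hy).2 ?_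
      rw [D.π_sec, hqe]; simp [ε, hce]
    · rw [(D.eq_or_eq_of_π_eq hy (D.sub.conj_mem hc hy) hπc).resolve_left hce,
        show q * (z * D.sec e) * q⁻¹ = (q * z * q⁻¹) * (q * D.sec e * q⁻¹) by group,
        mul_inv_eq_iff_eq_mul.2 hqz, D.sub.conj_of_not_commute hq hy fun hcm => ?_, ← mul_assoc,
        D.sub.mul_self, one_mul]
      have := (D.commute_iff hq hy).1 hcm
      rw [D.π_sec, hqe] at this
      simp [ε, hce] at this
  have hfix' := (mul_inv_eq_iff_eq_mul.1 hfix).symm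
  rcases D.eq_or_eq_of_π_eq hy hx (by rw [D.π_sec, hxe]) with r | r
  · rw [r]; exact hfix'
  · rw [r]; exact (Commute.mul_left (show Commute z (q * c) from (Commute.mul_left hqz hc).symm) hfix').eq

/-- The code of an element of the centralizer. -/
noncomputable def acode (a : G) : ℕ := code (D.act a)

theorem acode_mul {a b : G} (ha : a ∈ theA D) (hb : b ∈ theA D) :
    acode D (a * b) = acode D a ^^^ acode D b :=
  code_mul (D.act_iso (theA_comm_z D ha)) (D.act_iso (theA_comm_z D hb))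
    (fun _ hv => act_theA D ha hv) (fun _ hv => act_theA D hb hv)
    (D.act_mul (theA_comm_z D ha) (theA_comm_z D hb))

theorem mem_wTil_iff {a : G} (ha : a ∈ theA D) : a ∈ wTil D ↔ acode D a = 0 := by
  refine ⟨fun h => by rw [acode, show D.act a = fun v => v from funext (D.act_of_mem h.1), code_one],
    fun h => mem_wTil_of_mem_Q D ha (D.mem_of_act (theA_comm_z D ha) fun v => ?_)⟩
  exact code_inj (D.act_iso (theA_comm_z D ha)) ⟨fun _ _ => rfl, fun _ => rfl⟩
    (fun _ hv => act_theA D ha hv) (fun _ _ => rfl) (h.trans code_one.symm) v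

theorem inv_mul_mem_wTil {a b : G} (ha : a ∈ theA D) (hb : b ∈ theA D)
    (h : acode D a = acode D b) : a⁻¹ * b ∈ wTil D := by
  refine (mem_wTil_iff D (mul_mem (inv_mem ha) hb)).2 ?_
  have h1 := acode_mul D (inv_mem ha) ha
  rw [inv_mul_cancel, (mem_wTil_iff D (one_mem _)).1 (one_mem _)] at h1
  rw [acode_mul D (inv_mem ha) hb, ← h, ← h1]

theorem card_wTil : Nat.card (wTil D) = 32 := by
  classical
  have hz : ∀ b : Bool, (if b then z else 1) ∈ Q := fun b => by
    cases b <;> simp [D.sub.z_mem]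
  let f : {v : V8 // InW v} × Bool → wTil D := fun p =>
    ⟨(if p.2 then z else 1) * D.sec p.1.1, mul_mem (hz _) (D.sec_mem _), by
      rw [D.map_mul _ (hz _) _ (D.sec_mem _), D.π_sec]
      cases p.2 <;> simp [D.π_z, D.π_one] <;> exact p.1.2⟩
  have hπf : ∀ p, π ((f p : wTil D) : G) = p.1.1 := fun p => by
    show π ((if p.2 then z else 1) * D.sec p.1.1) = _
    rw [D.map_mul _ (hz _) _ (D.sec_mem _), D.π_sec]
    cases p.2 <;> simp [D.π_z, D.π_one]
  have hf : Function.Bijective f := by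
    refine ⟨fun ⟨v, b⟩ ⟨v', b'⟩ h => ?_, fun ⟨x, hx, hxW⟩ => ?_⟩
    · have hv : v = v' := Subtype.ext (by
        have := congrArg (fun t : wTil D => π (t : G)) h
        simpa only [hπf] using this)
      subst hv
      have h' : (if b then z else 1) * D.sec v.1 = (if b' then z else 1) * D.sec v.1 :=
        congrArg (fun t : wTil D => (t : G)) h
      have h2 : (if b then z else 1) = (if b' then z else 1) := mul_right_cancel h'
      have hne := D.sub.ne_one
      cases b <;> cases b'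
      · rfl
      · exact absurd h2.symm hne
      · exact absurd h2 hne
      · rfl
    · rcases D.eq_or_eq_of_π_eq (D.sec_mem (π x)) hx (D.π_sec _) with e | e
      · exact ⟨(⟨π x, hxW⟩, false), Subtype.ext ((one_mul _).trans e.symm)⟩
      · exact ⟨(⟨π x, hxW⟩, true), Subtype.ext e.symm⟩
  rw [← Nat.card_congr (Equiv.ofBijective f hf), Nat.card_prod, Nat.card_eq_fintype_card,
    Nat.card_eq_fintype_card, Fintype.card_subtype, wList_card, Fintype.card_bool]

/-- Elements of `C(z)` stabilising the subspace normalise the centralizer. -/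
theorem conj_mem_wTil {g x : G} (hg : g * z = z * g) (hgW : ∀ v, InW v → InW (D.act g v))
    (hx : x ∈ wTil D) : g * x * g⁻¹ ∈ wTil D :=
  ⟨D.sub.conj_mem hg hx.1, by rw [← D.act_π hg hx.1]; exact hgW _ hx.2⟩

variable [Finite G]

theorem conj_mem_theA {g a : G} (hg : g * z = z * g) (hgW : ∀ v, InW v → InW (D.act g v))
    (ha : a ∈ theA D) : g * a * g⁻¹ ∈ theA D := by
  refine Subgroup.mem_centralizer_iff.2 fun x hx => ?_
  have hgi : g⁻¹ * z = z * g⁻¹ := (Commute.inv_left hg).eq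
  have hiW : ∀ v, InW v → InW (D.act g⁻¹ v) := fun v hv => by
    classical
    have himg : (Finset.univ.filter fun v : V8 => InW v).image (D.act g) =
        Finset.univ.filter fun v : V8 => InW v := by
      refine Finset.eq_of_subset_of_card_le (fun u hu => ?_)
        (le_of_eq (Finset.card_image_of_injective _ fun u u' h => ?_).symm)
      · obtain ⟨u, hu', rfl⟩ := Finset.mem_image.1 hu
        exact Finset.mem_filter.2 ⟨Finset.mem_univ _, hgW u (Finset.mem_filter.1 hu').2⟩
      · rw [← (D.act_cancel hg u).1, h, (D.act_cancel hg u').1]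
    obtain ⟨u, hu, rfl⟩ := Finset.mem_image.1
      (himg.ge (Finset.mem_filter.2 ⟨Finset.mem_univ v, hv⟩))
    rw [(D.act_cancel hg u).1]
    exact (Finset.mem_filter.1 hu).2
  have h := Subgroup.mem_centralizer_iff.1 ha _ (conj_mem_wTil D hgi hiW hx)
  calc x * (g * a * g⁻¹) = g * ((g⁻¹ * x * g⁻¹⁻¹) * a) * g⁻¹ := by group
    _ = g * (a * (g⁻¹ * x * g⁻¹⁻¹)) * g⁻¹ := by rw [h]
    _ = g * a * g⁻¹ * x := by group

theorem lev_conj_mem {g a : G} (hg : Lev D g) (ha : a ∈ theA D) : g * a * g⁻¹ ∈ theA D :=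
  conj_mem_theA D hg.1 hg.2.1 ha

end

end CfsgLib.ConwayGolay
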